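import Mathlib

/-!
# Numerical lemmas for dihedral Schur rings
-/

set_option autoImplicit false

namespace CfsgLib.FGS.DihedralBGroup

/-- A rational integer multiple by an algebraic integer divides. -/
theorem int_dvd_of_integral {n d : ℤ} (hd : d ≠ 0) {w : ℂ} (hw : IsIntegral ℤ w)
    (h : (n : ℂ) = (d : ℂ) * w) : d ∣ n := by
  have hw' : w = algebraMap ℚ ℂ ((n : ℚ) / d) := by
    rw [eq_ratCast, Rat.cast_div, Rat.cast_intCast, Rat.cast_intCast, h,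
      mul_div_cancel_left₀ _ (Int.cast_ne_zero.mpr hd)]
  rw [hw', isIntegral_algebraMap_iff (algebraMap ℚ ℂ).injective] at hw
  obtain ⟨z, hz⟩ := IsIntegrallyClosed.isIntegral_iff.mp hw
  refine ⟨z, ?_⟩
  rw [eq_intCast, eq_div_iff (Int.cast_ne_zero.mpr hd)] at hz
  rw [mul_comm]
  exact_mod_cast hz.symm

theorem pow_two_pow_one_sub {x : ℂ} (hx : IsIntegral ℤ x) (n : ℕ) :
    ∃ z : ℂ, IsIntegral ℤ z ∧ (1 - x) ^ 2 ^ n = 1 - x ^ 2 ^ n + 2 * z := by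
  induction n with
  | zero => exact ⟨0, isIntegral_zero, by simp⟩
  | succ n ih =>
    obtain ⟨z, hz, he⟩ := ih
    set X := x ^ 2 ^ n with hX
    have hXi : IsIntegral ℤ X := hx.pow _
    have h2 : IsIntegral ℤ (2 : ℂ) := by
      simpa using isIntegral_algebraMap (R := ℤ) (A := ℂ) (x := 2)
    refine ⟨X * X - X + 2 * z * (1 - X) + 2 * z * z,
      (((hXi.mul hXi).sub hXi).add ((h2.mul hz).mul (isIntegral_one.sub hXi))).add ((h2.mul hz).mul hz), ?_⟩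
    rw [pow_succ 2 n, pow_mul, pow_mul, he, ← hX]
    ring

theorem no_unit_one_sub {x u : ℂ} (hx : IsIntegral ℤ x) (hu : IsIntegral ℤ u) {n : ℕ}
    (hn : x ^ 2 ^ n = 1) (h : 1 = (1 - x) * u) : False := by
  obtain ⟨z, hz, he⟩ := pow_two_pow_one_sub hx n
  have h1 : (1 : ℂ) = (1 - x) ^ 2 ^ n * u ^ 2 ^ n := by rw [← mul_pow, ← h, one_pow]
  rw [he, hn, sub_self, zero_add, mul_assoc] at h1
  have := int_dvd_of_integral (n := 1) (d := 2) two_ne_zero (hz.mul (hu.pow _)) (by exact_mod_cast h1)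
  norm_num at this

theorem sq_le_pred {y M E : ℤ} (hM : 0 < M) (hE : 1 < E) (h : y ^ 2 = M ^ 2 - E ^ 2 + E) :
    |y| ≤ M - 1 := by
  have : y ^ 2 < M ^ 2 := by nlinarith
  have := abs_lt_of_sq_lt_sq this hM.le
  omega

/-- The arithmetical contradiction for an odd prime. -/
theorem odd_contra {α β m δ N p : ℤ} (hp : 3 ≤ p) (hpd : p ∣ δ) (hd0 : δ ≠ 0) (hδ : δ = α - β)
    (hm : 2 * δ ^ 2 ≤ m) (hN : p * (N + 1) ≤ m) (hN0 : 0 ≤ N) (hpar : α * (m - α) = δ ^ 2 * N)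
    (hy : (α + β - m) ^ 2 = m ^ 2 - 2 * m * δ ^ 2 + δ ^ 2) : False := by
  have hd : 3 ≤ |δ| := hp.trans (Int.le_of_dvd (abs_pos.mpr hd0) ((dvd_abs _ _).mpr hpd))
  have hE : δ ^ 2 = |δ| ^ 2 := (sq_abs δ).symm
  set d := |δ|
  rw [hE] at hm hpar hy
  have hE1 : 1 < d ^ 2 := by nlinarith
  have hy' : |α + β - m| ≤ m - d ^ 2 - 1 :=
    sq_le_pred (by nlinarith) hE1 (by rw [hy]; ring)
  have hd' : |2 * α - m| ≤ m - d ^ 2 - 1 + d := by
    rw [abs_le] at hy' ⊢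
    have h1 := le_abs_self δ
    have h2 := neg_abs_le δ
    constructor <;> omega
  have h4 : (2 * α - m) ^ 2 ≤ (m - d ^ 2 - 1 + d) ^ 2 := by
    rw [← sq_abs]; exact pow_le_pow_left₀ (abs_nonneg _) hd' 2
  have hN3 : 3 * (N + 1) ≤ m := le_trans (mul_le_mul_of_nonneg_right hp (by omega)) hN
  have h5 : 0 ≤ d ^ 2 - 3 * d + 3 := by nlinarith
  nlinarith [mul_nonneg (sub_nonneg.mpr hm) h5, mul_nonneg (sq_nonneg d) (sq_nonneg (d - 3)),
    mul_le_mul_of_nonneg_left hN3 (sq_nonneg d)]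

/-- The arithmetical reduction for `p = 2`. -/
theorem two_pow_sq {a l : ℕ} (hl : 1 ≤ l) (hla : 2 * l + 1 ≤ a) {y : ℤ}
    (hy : y ^ 2 = (2 ^ a) ^ 2 - 2 * 2 ^ a * (2 ^ l) ^ 2 + (2 ^ l) ^ 2) : a = 2 * l + 1 := by
  by_contra hne
  have hdy : (2 : ℤ) ^ l ∣ y := by
    refine (Int.pow_dvd_pow_iff two_ne_zero).mp ?_
    rw [hy]
    refine dvd_add (dvd_sub (pow_dvd_pow_of_dvd (pow_dvd_pow 2 (by omega)) 2) ?_) dvd_rfl
    exact dvd_mul_left _ _
  obtain ⟨g, rfl⟩ := hdy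
  obtain ⟨i, rfl⟩ : ∃ i, a = l + (l + 1 + (i + 1)) := ⟨a - (2 * l + 2), by omega⟩
  set t : ℤ := 2 ^ (l + 1 + (i + 1)) with ht
  have hg : g ^ 2 = t * (t - 2 * 2 ^ l) + 1 := by
    refine mul_left_cancel₀ (pow_ne_zero 2 (pow_ne_zero l (two_ne_zero' ℤ))) ?_
    rw [pow_add 2 l, ← ht] at hy
    linear_combination hy
  set M : ℤ := 2 ^ (i + 1) - 1
  have hM : t * (t - 2 * 2 ^ l) = 4 * (2 ^ (2 * l + 1 + i) * M) := by
    simp only [t, M, show 2 * l = l + l by omega, pow_add, sq]; ring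
  have hM2 : 1 ≤ M := by
    have : (2 : ℤ) ^ 1 ≤ 2 ^ (i + 1) := pow_le_pow_right₀ (by norm_num) (by omega)
    simp only [M]; omega
  obtain ⟨h, rfl⟩ : Odd g := by
    by_contra hev
    obtain ⟨v, rfl⟩ := Int.not_odd_iff_even.mp hev
    rw [hM] at hg
    have h4 : (4 : ℤ) * (v ^ 2 - 2 ^ (2 * l + 1 + i) * M) = 1 := by linear_combination hg
    omega
  have hh : h * (h + 1) = 2 ^ (2 * l + 1 + i) * M := by
    rw [hM] at hg
    exact mul_left_cancel₀ (four_ne_zero' ℤ) (by linear_combination hg)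
  have h0 : 0 < h * (h + 1) := by rw [hh]; positivity
  have hbig : (2 : ℤ) ^ (2 * l + 1 + i) ≤ |h| + 1 := by
    by_cases h2 : (2 : ℤ) ∣ h
    · have h2' : ¬ (2 : ℤ) ∣ h + 1 := by omega
      have := Int.prime_two.pow_dvd_of_dvd_mul_right _ h2' (hh ▸ dvd_mul_right _ M)
      have := Int.le_of_dvd (abs_pos.mpr (fun e => by rw [e, zero_mul] at h0; exact lt_irrefl _ h0))
        ((dvd_abs _ _).mpr this)
      omega
    · have := Int.prime_two.pow_dvd_of_dvd_mul_left _ h2 (hh ▸ dvd_mul_right _ M)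
      have := Int.le_of_dvd (abs_pos.mpr (fun e => by rw [e, mul_zero] at h0; exact lt_irrefl _ h0))
        ((dvd_abs _ _).mpr this)
      have := abs_add_le h 1
      norm_num at this
      omega
  have h3 : 2 * |h| - 1 ≤ |2 * h + 1| := by
    rcases abs_cases h with h' | h' <;> rcases abs_cases (2 * h + 1) with h'' | h'' <;> omega
  have ht2 : t * 2 ^ l = 2 * 2 ^ (2 * l + 1 + i) := by
    simp only [t, show 2 * l = l + l by omega, pow_add, sq]; ring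
  have hL : (2 : ℤ) ≤ 2 ^ l := by simpa using pow_le_pow_right₀ (a := (2 : ℤ)) (by norm_num) hl
  have htpos : 4 * 2 ^ l ≤ t := by
    have : (2 : ℤ) ^ (l + 2) ≤ t := pow_le_pow_right₀ (by norm_num) (by omega)
    rw [pow_add] at this; linarith
  have hlow : 2 * t - 3 ≤ |2 * h + 1| := by
    nlinarith [mul_le_mul_of_nonneg_left hL (show (0 : ℤ) ≤ t by positivity)]
  have hsq : (2 * t - 3) ^ 2 ≤ (2 * h + 1) ^ 2 := by
    rw [← sq_abs (2 * h + 1)]
    exact pow_le_pow_left₀ (by nlinarith) hlow 2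
  nlinarith [pow_pos (two_pos (α := ℤ)) l]

end CfsgLib.FGS.DihedralBGroup
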