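import Cfsg.Agent.Lib.FGS.DihedralBGroup.Rational

/-!
# Characters of a dihedral Schur ring and its `p`-blocks

For an odd prime `p` dividing `m`, every class but the identity meets the rotations outside the
`p'`-part of the cyclic group.
-/

set_option autoImplicit false

noncomputable section

namespace CfsgLib.FGS.DihedralBGroup

open DihedralGroup
open scoped ComplexConjugate

variable {m : ℕ} [NeZero m]

/-- The characters of the rotation subgroup. -/
def chr (s i : ZMod m) : ℂ := ZMod.stdAddChar (s * i)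

theorem chr_add (s i j : ZMod m) : chr s (i + j) = chr s i * chr s j := by
  rw [chr, mul_add, AddChar.map_add_eq_mul]; rfl

theorem chr_add_left (s t i : ZMod m) : chr (s + t) i = chr s i * chr t i := by
  rw [chr, add_mul, AddChar.map_add_eq_mul]; rfl

theorem chr_zero (s : ZMod m) : chr s 0 = 1 := by rw [chr, mul_zero, AddChar.map_zero_eq_one]

theorem chr_zero_left (i : ZMod m) : chr 0 i = 1 := by rw [chr, zero_mul, AddChar.map_zero_eq_one]

theorem chr_eq_one_iff {s i : ZMod m} : chr s i = 1 ↔ s * i = 0 := by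
  rw [chr, ← AddChar.map_zero_eq_one (ZMod.stdAddChar (N := m))]
  exact ZMod.injective_stdAddChar.eq_iff

theorem conj_chr (s i : ZMod m) : conj (chr s i) = chr s (-i) := by
  rw [chr, chr, mul_neg, AddChar.map_neg_eq_conj]

theorem chr_pow (s i : ZMod m) (n : ℕ) : chr s i ^ n = chr ((n : ZMod m) * s) i := by
  rw [chr, chr, ← AddChar.map_nsmul_eq_pow, nsmul_eq_mul, mul_assoc]

theorem isIntegral_chr (s i : ZMod m) : IsIntegral ℤ (chr s i) := by
  refine IsIntegral.of_pow (n := m) (Nat.pos_of_ne_zero (NeZero.ne m)) ?_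
  rw [chr_pow, ZMod.natCast_self, zero_mul, chr_zero_left]
  exact isIntegral_one

theorem sum_chr (i : ZMod m) : ∑ s, chr s i = if i = 0 then (m : ℂ) else 0 := by
  have := AddChar.sum_mulShift (ψ := ZMod.stdAddChar (N := m)) i (ZMod.isPrimitive_stdAddChar m)
  rw [ZMod.card] at this
  simpa [chr, apply_ite (Nat.cast : ℕ → ℂ)] using this

/-- The Fourier transform on the rotations. -/
def hat (f : ZMod m → ℂ) (s : ZMod m) : ℂ := ∑ i, f i * chr s i

theorem hat_inv (f : ZMod m → ℂ) (i : ZMod m) : ∑ s, hat f s * chr s (-i) = m * f i := by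
  simp only [hat, Finset.sum_mul]
  rw [Finset.sum_comm, Finset.sum_eq_single i]
  · simp_rw [mul_assoc, ← chr_add, add_neg_cancel, chr_zero, mul_one]
    rw [Finset.sum_const, Finset.card_univ, ZMod.card, nsmul_eq_mul]
  · intro j _ hj
    simp_rw [mul_assoc, ← chr_add, ← Finset.mul_sum, sum_chr]
    rw [if_neg, mul_zero]
    rw [← sub_eq_add_neg, sub_eq_zero]
    exact hj
  · intro h; exact absurd (Finset.mem_univ _) h

theorem hat_shift (f : ZMod m → ℂ) (d s : ZMod m) : hat (fun i => f (i + d)) s = chr s (-d) * hat f s := by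
  rw [hat, hat, Finset.mul_sum]
  refine Fintype.sum_equiv (Equiv.addRight d) _ _ fun i => ?_
  rw [Equiv.coe_addRight, chr_add, mul_comm (chr s (-d)), mul_assoc, mul_assoc, ← chr_add s d, add_neg_cancel,
    chr_zero, mul_one]

variable (S : Sys m)

/-- The transform of the rotation part. -/
def aC (φ : DihedralGroup m → ℤ) (s : ZMod m) : ℂ := hat (fun i => (φ (r i) : ℂ)) s

/-- The transform of the reflection part. -/
def bT (φ : DihedralGroup m → ℤ) (s : ZMod m) : ℂ := hat (fun i => (φ (sr i) : ℂ)) s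

theorem isIntegral_hat_int (f : ZMod m → ℤ) (s : ZMod m) : IsIntegral ℤ (hat (fun i => (f i : ℂ)) s) :=
  IsIntegral.sum _ fun i _ => (isIntegral_algebraMap (R := ℤ) (x := f i)).mul (isIntegral_chr s i)

theorem conj_bT (φ : DihedralGroup m → ℤ) (s : ZMod m) :
    conj (bT φ s) = ∑ i, (φ (sr i) : ℂ) * chr s (-i) := by
  simp [bT, hat, map_sum, conj_chr]

theorem isIntegral_conj_bT (φ : DihedralGroup m → ℤ) (s : ZMod m) : IsIntegral ℤ (conj (bT φ s)) := by
  rw [conj_bT]
  exact IsIntegral.sum _ fun i _ => (isIntegral_algebraMap (R := ℤ) (x := φ (sr i))).mul (isIntegral_chr s (-i))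

theorem aC_real {φ : DihedralGroup m → ℤ} (h : S.Inv φ) (s : ZMod m) : conj (aC φ s) = aC φ s := by
  rw [aC, hat, map_sum]
  refine Fintype.sum_equiv (Equiv.neg _) _ _ fun i => ?_
  rw [map_mul, conj_chr, Equiv.neg_apply, map_intCast, ← inv_r, h.symm]

/-- The product of two functions in the group algebra. -/
def fmul (φ ψ : DihedralGroup m → ℤ) : DihedralGroup m → ℤ := fun z => (ofFun φ * ofFun ψ).coeff z

theorem aC_fmul {φ ψ : DihedralGroup m → ℤ} (s : ZMod m) :
    aC (fmul φ ψ) s = aC φ s * aC ψ s + bT ψ s * conj (bT φ s) := by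
  simp only [aC, bT, hat, fmul, coeff_mul_r, coeff_ofFun, Int.cast_add, Int.cast_sum, Int.cast_mul, add_mul,
    Finset.sum_add_distrib, Finset.sum_mul]
  congr 1
  · rw [Finset.sum_comm]
    refine Finset.sum_congr rfl fun i _ => ?_
    rw [Finset.mul_sum]
    refine Fintype.sum_equiv (Equiv.subRight i) _ _ fun k => ?_
    rw [Equiv.subRight_apply, mul_mul_mul_comm, ← chr_add, add_sub_cancel]
  · rw [Finset.sum_comm]
    simp only [map_sum, map_mul, map_intCast, conj_chr, Finset.mul_sum]
    conv_rhs => rw [Finset.sum_comm]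
    refine Finset.sum_congr rfl fun i _ => ?_
    refine Fintype.sum_equiv (Equiv.addRight i) _ _ fun k => ?_
    rw [Equiv.coe_addRight, mul_mul_mul_comm, ← chr_add, add_neg_cancel_right,
      mul_comm (ψ (sr (k + i)) : ℂ)]

theorem bT_fmul {φ ψ : DihedralGroup m → ℤ} (hφ : S.Inv φ) (s : ZMod m) :
    bT (fmul φ ψ) s = aC φ s * bT ψ s + bT φ s * aC ψ s := by
  conv_rhs => rw [← aC_real S hφ]
  simp only [aC, bT, hat, fmul, coeff_mul_sr, coeff_ofFun, Int.cast_add, Int.cast_sum, Int.cast_mul, add_mul,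
    Finset.sum_add_distrib, Finset.sum_mul, map_sum, map_mul, map_intCast, conj_chr]
  congr 1
  · rw [Finset.sum_comm]
    refine Finset.sum_congr rfl fun i _ => ?_
    rw [Finset.mul_sum]
    refine Fintype.sum_equiv (Equiv.addRight i) _ _ fun k => ?_
    rw [Equiv.coe_addRight, mul_mul_mul_comm, ← chr_add, neg_add_cancel_comm_assoc]
  · rw [Finset.sum_comm]
    refine Finset.sum_congr rfl fun i _ => ?_
    rw [Finset.mul_sum]
    refine Fintype.sum_equiv (Equiv.subRight i) _ _ fun k => ?_
    rw [Equiv.subRight_apply, mul_mul_mul_comm, ← chr_add, add_sub_cancel]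

variable {S}

theorem bT_comm {φ ψ : DihedralGroup m → ℤ} (hφ : S.Inv φ) (hψ : S.Inv ψ) (s : ZMod m) :
    bT ψ s * conj (bT φ s) = bT φ s * conj (bT ψ s) := by
  have h : fmul φ ψ = fmul ψ φ := by
    unfold fmul
    rw [(Sys.invA_ofFun hφ).mul_comm (Sys.invA_ofFun hψ)]
  have h1 := aC_fmul (φ := φ) (ψ := ψ) s
  rw [h, aC_fmul] at h1
  linear_combination -h1

variable (S)

theorem exists_phase (s : ZMod m) : ∃ u : ℂ, u * conj u = 1 ∧
    ∀ φ, S.RatF φ → conj (bT φ s * conj u) = bT φ s * conj u := by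
  by_cases h : ∃ φ, S.RatF φ ∧ bT φ s ≠ 0
  · obtain ⟨φ, hφ, hb⟩ := h
    refine ⟨bT φ s / (‖bT φ s‖ : ℂ), ?_, fun ψ hψ => ?_⟩
    · rw [map_div₀, Complex.conj_ofReal, div_mul_div_comm, Complex.mul_conj', sq, div_self]
      simp [hb]
    · rw [map_div₀, Complex.conj_ofReal, ← mul_div_assoc, map_div₀, Complex.conj_ofReal, map_mul, Complex.conj_conj,
        mul_comm, bT_comm hψ.1 hφ.1]
  · push Not at h
    refine ⟨1, by simp, fun ψ hψ => by simp [h ψ hψ]⟩

/-- The common phase of the reflection parts. -/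
def phase (s : ZMod m) : ℂ := (exists_phase S s).choose

/-- The real coordinate of a reflection part. -/
def rho (φ : DihedralGroup m → ℤ) (s : ZMod m) : ℂ := bT φ s * conj (phase S s)

theorem rho_mul_rho {φ ψ : DihedralGroup m → ℤ} (hφ : S.RatF φ) (s : ZMod m) :
    rho S φ s * rho S ψ s = bT ψ s * conj (bT φ s) := by
  have h1 := (exists_phase S s).choose_spec.1
  have h2 : conj (rho S φ s) = rho S φ s := (exists_phase S s).choose_spec.2 φ hφ
  conv_lhs => rw [← h2]
  unfold rho phase
  rw [map_mul, Complex.conj_conj]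
  linear_combination (bT ψ s * conj (bT φ s)) * h1

/-- The sign of an index. -/
def sgn (e : Bool) : ℂ := if e then 1 else -1

/-- The algebra characters of the rational Schur ring. -/
def hom (ξ : ZMod m × Bool) (φ : DihedralGroup m → ℤ) : ℂ := aC φ ξ.1 + sgn ξ.2 * rho S φ ξ.1

theorem hom_mul {φ ψ : DihedralGroup m → ℤ} (hφ : S.RatF φ) (ξ : ZMod m × Bool) :
    hom S ξ (fmul φ ψ) = hom S ξ φ * hom S ξ ψ := by
  have hs : sgn ξ.2 * sgn ξ.2 = 1 := by unfold sgn; split <;> norm_num
  unfold hom
  rw [aC_fmul, ← rho_mul_rho S hφ]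
  unfold rho
  rw [bT_fmul S hφ.1]
  linear_combination -(bT φ ξ.1 * conj (phase S ξ.1) * (bT ψ ξ.1 * conj (phase S ξ.1))) * hs

theorem isIntegral_hom {φ : DihedralGroup m → ℤ} (hφ : S.RatF φ) (ξ : ZMod m × Bool) :
    IsIntegral ℤ (hom S ξ φ) := by
  refine (isIntegral_hat_int _ _).add (IsIntegral.mul ?_ (IsIntegral.of_pow two_pos ?_))
  · unfold sgn; split
    · exact isIntegral_one
    · exact isIntegral_one.neg
  · rw [sq, rho_mul_rho S hφ]
    exact (isIntegral_hat_int _ _).mul (isIntegral_conj_bT _ _)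

theorem aC_add (φ ψ : DihedralGroup m → ℤ) (s : ZMod m) : aC (φ + ψ) s = aC φ s + aC ψ s := by
  simp [aC, hat, add_mul, Finset.sum_add_distrib]

theorem bT_add (φ ψ : DihedralGroup m → ℤ) (s : ZMod m) : bT (φ + ψ) s = bT φ s + bT ψ s := by
  simp [bT, hat, add_mul, Finset.sum_add_distrib]

theorem hom_add (φ ψ : DihedralGroup m → ℤ) (ξ : ZMod m × Bool) :
    hom S ξ (φ + ψ) = hom S ξ φ + hom S ξ ψ := by
  simp only [hom, rho, aC_add, bT_add]
  ring

/-- The value of a character on a combination of classes. -/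
def homQ (c : S.Cl → ℂ) (ξ : ZMod m × Bool) : ℂ :=
  hat (fun i => c (S.cls (r i))) ξ.1 + sgn ξ.2 * (hat (fun i => c (S.cls (sr i))) ξ.1 * conj (phase S ξ.1))

theorem homQ_int (c : S.Cl → ℤ) (ξ : ZMod m × Bool) :
    homQ S (fun q => (c q : ℂ)) ξ = hom S ξ fun z => c (S.cls z) := rfl

theorem homQ_sum {ι : Type*} (t : Finset ι) (w : ι → ℂ) (c : ι → S.Cl → ℂ) (ξ : ZMod m × Bool) :
    homQ S (fun q => ∑ j ∈ t, w j * c j q) ξ = ∑ j ∈ t, w j * homQ S (c j) ξ := by
  simp only [homQ, hat, Finset.sum_mul, Finset.mul_sum, mul_add, Finset.sum_add_distrib]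
  congr 1 <;> rw [Finset.sum_comm] <;> refine Finset.sum_congr rfl fun i _ => Finset.sum_congr rfl fun j _ => ?_
  · ring
  · ring

open Classical in
/-- The indicator of a class. -/
def delta (q : S.Cl) : DihedralGroup m → ℤ := fun z => if S.cls z = q then 1 else 0

theorem ratF_delta (q : S.Cl) : S.RatF (delta S q) := by
  classical
  exact S.ratF_cls fun q' => if q' = q then 1 else 0

theorem homQ_eq_sum (c : S.Cl → ℂ) (ξ : ZMod m × Bool) :
    homQ S c ξ = ∑ q, c q * hom S ξ (delta S q) := by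
  classical
  have h1 : c = fun q' => ∑ q, c q * ((if q' = q then 1 else 0 : ℤ) : ℂ) := by
    funext q'
    simp
  conv_lhs => rw [h1]
  rw [homQ_sum]
  exact Finset.sum_congr rfl fun q _ => congrArg _ (homQ_int S _ ξ)

theorem hom_eq_sum {φ : DihedralGroup m → ℤ} (hφ : S.RatF φ) (ξ : ZMod m × Bool) :
    ∃ c : S.Cl → ℤ, (∀ z, φ z = c (S.cls z)) ∧ hom S ξ φ = ∑ q, (c q : ℂ) * hom S ξ (delta S q) := by
  refine ⟨fun q => φ (Function.surjInv (f := S.cls) Quotient.mk_surjective q), fun z => ?_, ?_⟩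
  · exact hφ.apply_eq S (Function.surjInv_eq (f := S.cls) Quotient.mk_surjective (S.cls z)).symm
  · rw [← homQ_eq_sum, homQ_int]
    congr 1
    funext z
    exact hφ.apply_eq S (Function.surjInv_eq (f := S.cls) Quotient.mk_surjective (S.cls z)).symm

/-- The span of the class values is closed under products. -/
theorem homQ_mul_mem (hm : 2 ≤ m) (c d : S.Cl → ℂ) :
    ∃ e : S.Cl → ℂ, ∀ ξ, homQ S e ξ = homQ S c ξ * homQ S d ξ := by
  have hZ : ∀ qq : S.Cl × S.Cl, S.RatF (fmul (delta S qq.1) (delta S qq.2)) := fun qq =>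
    (ratF_delta S qq.1).mul hm (ratF_delta S qq.2)
  refine ⟨fun q => ∑ qq : S.Cl × S.Cl, c qq.1 * d qq.2 *
    (fmul (delta S qq.1) (delta S qq.2) (Function.surjInv (f := S.cls) Quotient.mk_surjective q) : ℂ),
    fun ξ => ?_⟩
  rw [homQ_sum, homQ_eq_sum, homQ_eq_sum, Finset.sum_mul_sum, Fintype.sum_prod_type]
  refine Finset.sum_congr rfl fun q _ => Finset.sum_congr rfl fun q' _ => ?_
  rw [homQ_int]
  have : (fun z => fmul (delta S q) (delta S q') (Function.surjInv (f := S.cls) Quotient.mk_surjective (S.cls z))) =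
      fmul (delta S q) (delta S q') := by
    funext z
    exact (hZ (q, q')).apply_eq S (Function.surjInv_eq (f := S.cls) Quotient.mk_surjective (S.cls z))
  rw [this, hom_mul S (ratF_delta S q)]
  ring

open Classical in
/-- The characters separate. -/
theorem exists_indicator (hm : 2 ≤ m) (ξ₀ : ZMod m × Bool) : ∃ c : S.Cl → ℂ, ∀ ξ, homQ S c ξ =
    if (∀ q, hom S ξ (delta S q) = hom S ξ₀ (delta S q)) then 1 else 0 := by
  let P : (ZMod m × Bool → ℂ) → Prop := fun F => ∃ c : S.Cl → ℂ, ∀ ξ, homQ S c ξ = F ξ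
  have hPmul : ∀ F G, P F → P G → P (F * G) := by
    rintro F G ⟨c, hc⟩ ⟨d, hd⟩
    obtain ⟨e, he⟩ := homQ_mul_mem S hm c d
    exact ⟨e, fun ξ => by rw [he, hc, hd, Pi.mul_apply]⟩
  have hone : ∀ ξ, hom S ξ (delta S (S.cls 1)) = 1 := by
    intro ξ
    have h1 : ∀ z, delta S (S.cls 1) z = if z = 1 then 1 else 0 := fun z => by
      simp only [delta, S.cls_eq_one_iff]
    simp only [hom, rho, aC, bT, hat, h1]
    rw [Finset.sum_eq_single (0 : ZMod m) ?_ ?_, Finset.sum_eq_zero ?_]
    · rw [if_pos one_def.symm, chr_zero]; simp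
    · intro i _; rw [if_neg (fun h => by rw [one_def] at h; cases h)]; simp
    · intro i _ hi; rw [if_neg (by rw [one_def, r.injEq]; exact hi)]; simp
    · intro h; exact absurd (Finset.mem_univ _) h
  have hconst : ∀ a : ℂ, P fun _ => a := fun a => ⟨fun q => if q = S.cls 1 then a else 0, fun ξ => by
    rw [homQ_eq_sum, Finset.sum_eq_single (S.cls 1)]
    · rw [if_pos rfl, hone, mul_one]
    · intro q _ hq; rw [if_neg hq, zero_mul]
    · intro h; exact absurd (Finset.mem_univ _) h⟩
  set Bad := Finset.univ.filter fun η => ¬ ∀ q, hom S η (delta S q) = hom S ξ₀ (delta S q)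
  have hsep : ∀ η ∈ Bad, ∃ q, hom S η (delta S q) ≠ hom S ξ₀ (delta S q) := fun η hη => by
    simpa [Bad] using hη
  choose! qs hqs using hsep
  have hfac : ∀ η ∈ Bad, P fun ξ =>
      (hom S ξ (delta S (qs η)) - hom S η (delta S (qs η))) /
        (hom S ξ₀ (delta S (qs η)) - hom S η (delta S (qs η))) := by
    intro η _
    set den := hom S ξ₀ (delta S (qs η)) - hom S η (delta S (qs η))
    refine ⟨fun q => ∑ j : Bool, (if j then 1 / den else -hom S η (delta S (qs η)) / den) *
      (if q = (if j then qs η else S.cls 1) then 1 else 0), fun ξ => ?_⟩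
    rw [homQ_sum, Fintype.sum_bool]
    simp only [homQ_eq_sum, ite_mul, one_mul, zero_mul, Finset.sum_ite_eq', Finset.mem_univ, if_true,
      Bool.false_eq_true, if_false, hone]
    ring
  obtain ⟨c, hc⟩ : P (∏ η ∈ Bad, fun ξ =>
      (hom S ξ (delta S (qs η)) - hom S η (delta S (qs η))) /
        (hom S ξ₀ (delta S (qs η)) - hom S η (delta S (qs η)))) :=
    Finset.prod_induction _ P hPmul (hconst 1) hfac
  refine ⟨c, fun ξ => ?_⟩
  rw [hc, Finset.prod_apply]
  split
  · rename_i h
    refine Finset.prod_eq_one fun η hη => ?_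
    rw [h, div_self (sub_ne_zero.mpr (Ne.symm (hqs η hη)))]
  · rename_i h
    exact Finset.prod_eq_zero (i := ξ) (Finset.mem_filter.mpr ⟨Finset.mem_univ _, h⟩) (by rw [sub_self, zero_div])

theorem exists_modular (p : ℕ) (hp : p.Prime) :
    ∃ M : Ideal (integralClosure ℤ ℂ), M.IsMaximal ∧ ((p : ℕ) : integralClosure ℤ ℂ) ∈ M := by
  have hne : Ideal.span {((p : ℕ) : integralClosure ℤ ℂ)} ≠ ⊤ := by
    intro h
    rw [Ideal.span_singleton_eq_top] at h
    obtain ⟨b, hb⟩ := h.exists_right_inv
    have hb' : (p : ℂ) * (b : ℂ) = 1 := by exact_mod_cast congrArg Subtype.val hb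
    have hp0 : (p : ℂ) ≠ 0 := Nat.cast_ne_zero.mpr hp.ne_zero
    have hi : IsIntegral ℤ (((p : ℚ)⁻¹ : ℚ) : ℂ) := by
      rw [Rat.cast_inv, Rat.cast_natCast, ← eq_inv_of_mul_eq_one_right hb']
      exact b.2
    have hi' : IsIntegral ℤ ((p : ℚ)⁻¹) :=
      (isIntegral_algebraMap_iff (B := ℂ) (algebraMap ℚ ℂ).injective).mp hi
    obtain ⟨n, hn⟩ := IsIntegrallyClosed.algebraMap_eq_of_integral hi'
    have h1 : ((p : ℤ) * n : ℚ) = 1 := by
      have : (algebraMap ℤ ℚ) n = (n : ℚ) := rfl
      rw [this] at hn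
      push_cast
      rw [hn, mul_inv_cancel₀ (Nat.cast_ne_zero.mpr hp.ne_zero)]
    have h2 : (p : ℤ) ∣ 1 := ⟨n, by exact_mod_cast h1.symm⟩
    exact hp.ne_one (Nat.dvd_one.mp (by exact_mod_cast h2))
  obtain ⟨M, hM, hle⟩ := Ideal.exists_le_maximal _ hne
  exact ⟨M, hM, hle (Ideal.mem_span_singleton_self _)⟩

set_option maxHeartbeats 800000 in
/-- Every class but the identity has a rotation outside the `p'`-part. -/
theorem exists_not_pPrime (hm : 2 ≤ m) {p : ℕ} (hp : p.Prime) (hp2 : p ≠ 2) {P k : ℕ} (hPk : m = P * k)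
    (hP : ∃ a, 1 ≤ a ∧ P = p ^ a) (hk : ¬ p ∣ k) (x : DihedralGroup m) (hx : x ≠ 1) :
    ∃ i, S.cls (r i) = S.cls x ∧ (k : ZMod m) * i ≠ 0 := by
  classical
  have := Fact.mk hp
  obtain ⟨a, ha, hPa⟩ := hP
  obtain ⟨M, hMmax, hpM⟩ := exists_modular p hp
  have := hMmax
  haveI : M.IsPrime := hMmax.isPrime
  let res : integralClosure ℤ ℂ →+* (integralClosure ℤ ℂ ⧸ M) := Ideal.Quotient.mk M
  have hpκ : (p : (integralClosure ℤ ℂ ⧸ M)) = 0 := by
    have : res ((p : ℕ) : integralClosure ℤ ℂ) = 0 := Ideal.Quotient.eq_zero_iff_mem.mpr hpM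
    rwa [map_natCast] at this
  haveI hcharp : CharP (integralClosure ℤ ℂ ⧸ M) p := by
    obtain ⟨q, hq⟩ := CharP.exists (integralClosure ℤ ℂ ⧸ M)
    have hd : q ∣ p := (CharP.cast_eq_zero_iff (integralClosure ℤ ℂ ⧸ M) q p).mp hpκ
    rcases hp.eq_one_or_self_of_dvd q hd with h | h
    · subst h
      exact (CharP.false_of_nontrivial_of_char_one (R := (integralClosure ℤ ℂ ⧸ M))).elim
    · exact h ▸ hq
  have h2 : (2 : (integralClosure ℤ ℂ ⧸ M)) ≠ 0 := by
    intro h
    exact hp2 ((Nat.prime_dvd_prime_iff_eq hp Nat.prime_two).mp ((CharP.cast_eq_zero_iff (integralClosure ℤ ℂ ⧸ M) p 2).mp (by exact_mod_cast h)))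
  have hkκ : (k : (integralClosure ℤ ℂ ⧸ M)) ≠ 0 := fun h => hk ((CharP.cast_eq_zero_iff (integralClosure ℤ ℂ ⧸ M) p k).mp h)
  -- reductions of characters
  let cI : ZMod m → ZMod m → integralClosure ℤ ℂ := fun s i => ⟨chr s i, isIntegral_chr s i⟩
  have hPdvd : ∀ s i d : ZMod m, (P : ZMod m) * d = 0 → res (cI (s + d) i) = res (cI s i) := by
    intro s i d hd
    have h1 : cI (s + d) i = cI s i * cI d i := Subtype.ext (chr_add_left s d i)
    have h3 : cI d i ^ P = 1 := Subtype.ext (by
      show chr d i ^ P = 1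
      rw [chr_pow, hd, chr_zero_left])
    rw [h1, map_mul]
    have h4 : (res (cI d i) - 1) ^ (p ^ a) = 0 := by
      rw [sub_pow_char_pow, one_pow, ← map_pow, ← hPa, h3, map_one, sub_self]
    rw [sub_eq_zero.mp (pow_eq_zero_iff (pow_ne_zero a hp.ne_zero) |>.mp h4), mul_one]
  let aI : (DihedralGroup m → ℤ) → ZMod m → integralClosure ℤ ℂ := fun φ s =>
    ⟨aC φ s, isIntegral_hat_int _ _⟩
  let bI : (DihedralGroup m → ℤ) → ZMod m → integralClosure ℤ ℂ := fun φ s =>
    ⟨bT φ s, isIntegral_hat_int _ _⟩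
  let bIc : (DihedralGroup m → ℤ) → ZMod m → integralClosure ℤ ℂ := fun φ s =>
    ⟨conj (bT φ s), isIntegral_conj_bT φ s⟩
  have hsumI : ∀ (f : ZMod m → ℤ) (g : ZMod m → integralClosure ℤ ℂ) (v : integralClosure ℤ ℂ),
      (v : ℂ) = ∑ i, (f i : ℂ) * g i → res v = ∑ i, (f i : (integralClosure ℤ ℂ ⧸ M)) * res (g i) := by
    intro f g v hv
    have : v = ∑ i, (f i : integralClosure ℤ ℂ) * g i := Subtype.ext (by push_cast; exact hv)
    rw [this, map_sum]
    simp [map_mul]
  have haI : ∀ φ s, res (aI φ s) = ∑ i, (φ (r i) : (integralClosure ℤ ℂ ⧸ M)) * res (cI s i) := fun φ s => hsumI _ _ _ rfl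
  have hbI : ∀ φ s, res (bI φ s) = ∑ i, (φ (sr i) : (integralClosure ℤ ℂ ⧸ M)) * res (cI s i) := fun φ s => hsumI _ _ _ rfl
  have hbIc : ∀ φ s, res (bIc φ s) = ∑ i, (φ (sr i) : (integralClosure ℤ ℂ ⧸ M)) * res (cI s (-i)) := fun φ s =>
    hsumI _ _ _ (conj_bT φ s)
  -- reductions of homomorphisms
  let hI : {φ : DihedralGroup m → ℤ // S.RatF φ} → ZMod m × Bool → integralClosure ℤ ℂ := fun φ ξ =>
    ⟨hom S ξ φ.1, isIntegral_hom S φ.2 ξ⟩
  have hsumh : ∀ φ s, res (hI φ (s, true)) + res (hI φ (s, false)) = 2 * res (aI φ.1 s) := by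
    intro φ s
    rw [← map_ofNat res 2, ← map_add, ← map_mul]
    congr 1
    refine Subtype.ext ?_
    show hom S (s, true) φ.1 + hom S (s, false) φ.1 = 2 * aC φ.1 s
    simp [hom, sgn]
    ring
  have hquad : ∀ φ s e, (res (hI φ (s, e)) - res (aI φ.1 s)) ^ 2 = res (bI φ.1 s) * res (bIc φ.1 s) := by
    intro φ s e
    rw [← map_sub, ← map_pow, ← map_mul]
    congr 1
    refine Subtype.ext ?_
    show (hom S (s, e) φ.1 - aC φ.1 s) ^ 2 = bT φ.1 s * conj (bT φ.1 s)
    rw [← rho_mul_rho S φ.2]
    have : sgn e * sgn e = 1 := by unfold sgn; split <;> norm_num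
    simp only [hom]
    linear_combination (rho S φ.1 s * rho S φ.1 s) * this
  let dl : S.Cl → {φ : DihedralGroup m → ℤ // S.RatF φ} := fun q => ⟨delta S q, ratF_delta S q⟩
  let R : ZMod m × Bool → (S.Cl → (integralClosure ℤ ℂ ⧸ M)) := fun ξ q => res (hI (dl q) ξ)
  have hRlin : ∀ (c : S.Cl → ℤ) ξ,
      res (hI ⟨fun z => c (S.cls z), S.ratF_cls c⟩ ξ) = ∑ q, (c q : (integralClosure ℤ ℂ ⧸ M)) * R ξ q := by
    intro c ξ
    have : hI ⟨fun z => c (S.cls z), S.ratF_cls c⟩ ξ = ∑ q, (c q : integralClosure ℤ ℂ) * hI (dl q) ξ := by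
      refine Subtype.ext ?_
      push_cast
      show hom S ξ _ = _
      rw [← homQ_int, homQ_eq_sum]
    rw [this, map_sum]
    simp [map_mul, R]
  -- the pair at a shifted index
  have hpair : ∀ s d, (P : ZMod m) * d = 0 →
      (R (s + d, true) = R (s, true) ∧ R (s + d, false) = R (s, false)) ∨
      (R (s + d, true) = R (s, false) ∧ R (s + d, false) = R (s, true)) := by
    intro s d hd
    have haeq : ∀ φ, res (aI φ (s + d)) = res (aI φ s) := fun φ => by
      rw [haI, haI]; exact Finset.sum_congr rfl fun i _ => by rw [hPdvd s i d hd]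
    have hbeq : ∀ φ, res (bI φ (s + d)) * res (bIc φ (s + d)) = res (bI φ s) * res (bIc φ s) := fun φ => by
      rw [hbI, hbI, hbIc, hbIc]
      congr 1 <;> exact Finset.sum_congr rfl fun i _ => by rw [hPdvd _ _ d hd]
    have hor : ∀ φ, res (hI φ (s + d, true)) = res (hI φ (s, true)) ∨
        res (hI φ (s + d, true)) = res (hI φ (s, false)) := by
      intro φ
      have h1 := hquad φ (s + d) true
      rw [haeq, hbeq, ← hquad φ s true] at h1
      rcases eq_or_eq_neg_of_sq_eq_sq _ _ h1 with h | h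
      · exact Or.inl (by linear_combination h)
      · refine Or.inr ?_
        have := hsumh φ s
        linear_combination h - this
    have hsum : ∀ q, R (s + d, true) q + R (s + d, false) q = R (s, true) q + R (s, false) q := fun q => by
      simp only [R, hsumh, haeq]
    have hall : R (s + d, true) = R (s, true) ∨ R (s + d, true) = R (s, false) := by
      by_contra hcon
      push Not at hcon
      obtain ⟨q1, hq1⟩ := Function.ne_iff.mp hcon.1
      obtain ⟨q2, hq2⟩ := Function.ne_iff.mp hcon.2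
      have h1 := hor (dl q1)
      have h2' := hor (dl q2)
      have h12 := hor ⟨_, S.ratF_cls fun q => (if q = q1 then (1 : ℤ) else 0) + (if q = q2 then 1 else 0)⟩
      rw [hRlin (fun q => (if q = q1 then (1 : ℤ) else 0) + (if q = q2 then 1 else 0)),
        hRlin (fun q => (if q = q1 then (1 : ℤ) else 0) + (if q = q2 then 1 else 0)),
        hRlin (fun q => (if q = q1 then (1 : ℤ) else 0) + (if q = q2 then 1 else 0))] at h12
      simp only [Int.cast_add, apply_ite (Int.cast : ℤ → (integralClosure ℤ ℂ ⧸ M)), Int.cast_one, Int.cast_zero, add_mul, ite_mul, one_mul,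
        zero_mul, Finset.sum_add_distrib, Finset.sum_ite_eq', Finset.mem_univ, if_true] at h12
      have e1 : R (s + d, true) q1 = R (s, false) q1 := h1.resolve_left hq1
      have e2 : R (s + d, true) q2 = R (s, true) q2 := h2'.resolve_right hq2
      rcases h12 with h | h
      · rw [e2] at h; exact hq1 (add_right_cancel h)
      · rw [e1] at h; exact hq2 (add_left_cancel h)
    rcases hall with h | h
    · refine Or.inl ⟨h, funext fun q => ?_⟩
      have := hsum q; rw [h] at this; exact add_left_cancel this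
    · refine Or.inr ⟨h, funext fun q => ?_⟩
      have := hsum q; rw [h, add_comm (R (s, false) q)] at this
      linear_combination this
  -- the classes inside the `p'`-part
  let W := {q : S.Cl // ∀ i, S.cls (r i) = q → (k : ZMod m) * i = 0}
  have hsupp : ∀ c : S.Cl → ℂ,
      (∀ s d, (P : ZMod m) * d = 0 → homQ S c (s + d, true) + homQ S c (s + d, false) =
        homQ S c (s, true) + homQ S c (s, false)) →
      ∀ i, c (S.cls (r i)) ≠ 0 → (k : ZMod m) * i = 0 := by
    intro c hc i hci
    by_contra hki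
    have hsum : ∀ s, homQ S c (s, true) + homQ S c (s, false) = 2 * hat (fun j => c (S.cls (r j))) s := by
      intro s; simp [homQ, sgn]; ring
    have hPk0 : (P : ZMod m) * (k : ZMod m) = 0 := by rw [← Nat.cast_mul, ← hPk, ZMod.natCast_self]
    have hinv := hat_inv (fun j => c (S.cls (r j))) i
    have h1 : (chr (k : ZMod m) (-i) - 1) * ∑ s, hat (fun j => c (S.cls (r j))) s * chr s (-i) = 0 := by
      rw [sub_mul, one_mul, sub_eq_zero, Finset.mul_sum]
      refine Fintype.sum_equiv (Equiv.addRight (k : ZMod m)) _ _ fun s => ?_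
      have := hc s k hPk0
      rw [hsum, hsum] at this
      rw [Equiv.coe_addRight, mul_left_cancel₀ two_ne_zero this, chr_add_left]
      ring
    rw [hinv, mul_eq_zero, sub_eq_zero, chr_eq_one_iff, mul_neg, neg_eq_zero] at h1
    exact h1.elim hki (mul_ne_zero (Nat.cast_ne_zero.mpr (NeZero.ne m)) hci)
  set Bk : Finset (S.Cl → (integralClosure ℤ ℂ ⧸ M)) := Finset.univ.image R
  -- there are at least as many blocks as classes in the `p'`-part
  have hWle : Fintype.card W ≤ Bk.card := by
    let T : (W → (integralClosure ℤ ℂ ⧸ M)) →ₗ[(integralClosure ℤ ℂ ⧸ M)] ({β // β ∈ Bk} → (integralClosure ℤ ℂ ⧸ M)) :=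
      { toFun := fun c β => ∑ w : W, c w * β.1 w.1
        map_add' := fun c d => by funext β; simp [add_mul, Finset.sum_add_distrib]
        map_smul' := fun v c => by funext β; simp [Finset.mul_sum, mul_assoc] }
    have hT : Function.Injective T := by
      rw [injective_iff_map_eq_zero]
      intro c hc
      funext w₀
      have hzero : ∀ s, ∑ i : ZMod m, (if h : ∀ j, S.cls (r j) = S.cls (r i) → (k : ZMod m) * j = 0
          then c ⟨S.cls (r i), h⟩ else 0) * res (cI s i) = 0 := by
        intro s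
        have h1 : ∀ e, ∑ w : W, c w * R (s, e) w.1 = 0 := fun e =>
          congrFun hc ⟨R (s, e), Finset.mem_image_of_mem _ (Finset.mem_univ _)⟩
        have h3 : (2 : (integralClosure ℤ ℂ ⧸ M)) * ∑ w : W, c w * res (aI (delta S w.1) s) = 0 := by
          rw [Finset.mul_sum]
          calc ∑ w : W, 2 * (c w * res (aI (delta S w.1) s))
              = ∑ w : W, (c w * R (s, true) w.1 + c w * R (s, false) w.1) :=
                Finset.sum_congr rfl fun w _ => by rw [← mul_add, hsumh]; ring
            _ = 0 := by rw [Finset.sum_add_distrib, h1, h1, add_zero]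
        have h4 := (mul_eq_zero.mp h3).resolve_left h2
        simp only [haI, Finset.mul_sum] at h4
        rw [Finset.sum_comm] at h4
        refine (Finset.sum_congr rfl fun i _ => ?_).trans h4
        simp only [← mul_assoc, ← Finset.sum_mul]
        congr 1
        split
        · rename_i h
          rw [Finset.sum_eq_single (⟨S.cls (r i), h⟩ : W)]
          · simp [delta]
          · intro w _ hw
            have : delta S w.1 (r i) = 0 := if_neg fun he => hw (Subtype.ext he.symm)
            simp [this]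
          · intro hh; exact absurd (Finset.mem_univ _) hh
        · rename_i h
          refine (Finset.sum_eq_zero fun w _ => ?_).symm
          have : delta S w.1 (r i) = 0 := if_neg fun he => h (fun j hj => w.2 j (hj.trans he))
          simp [this]
      obtain ⟨z, hz⟩ := Quotient.mk_surjective w₀.1
      obtain ⟨γ, hγ, i₀, hi₀⟩ := S.exists_rot hm z
      have hcls : S.cls (r i₀) = w₀.1 := by rw [← hi₀, S.cls_apply γ hγ]; exact hz
      have hki₀ : (k : ZMod m) * i₀ = 0 := w₀.2 i₀ hcls
      set F : ZMod m → (integralClosure ℤ ℂ ⧸ M) := fun i => if h : ∀ j, S.cls (r j) = S.cls (r i) → (k : ZMod m) * j = 0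
        then c ⟨S.cls (r i), h⟩ else 0
      have hFsupp : ∀ i, F i ≠ 0 → (k : ZMod m) * i = 0 := by
        intro i hi
        simp only [F] at hi
        split at hi
        · rename_i h; exact h i rfl
        · exact absurd rfl hi
      set ζ : ZMod m → (integralClosure ℤ ℂ ⧸ M) := fun i => res (cI (P : ZMod m) i)
      have hmulP : ∀ t : ℕ, ∀ i, res (cI ((P : ZMod m) * (t : ZMod m)) i) = ζ i ^ t := by
        intro t i
        simp only [ζ, ← map_pow]
        congr 1
        refine Subtype.ext ?_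
        show chr ((P : ZMod m) * (t : ZMod m)) i = chr (P : ZMod m) i ^ t
        rw [chr_pow, mul_comm]
      have hζadd : ∀ i j, ζ (i + j) = ζ i * ζ j := fun i j => by
        simp only [ζ, ← map_mul]
        exact congrArg res (Subtype.ext (chr_add _ _ _))
      have horth : ∀ i, (k : ZMod m) * i = 0 → ∑ t ∈ Finset.range k, ζ i ^ t = if i = 0 then (k : (integralClosure ℤ ℂ ⧸ M)) else 0 := by
        intro i hi
        split
        · rename_i h
          subst h
          have : ζ 0 = 1 := by
            simp only [ζ, ← map_one res]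
            exact congrArg res (Subtype.ext (chr_zero _))
          simp [this]
        · rename_i h
          have hne : chr (P : ZMod m) i ≠ 1 := by
            rw [Ne, chr_eq_one_iff]
            intro hPi
            apply h
            have hco : Nat.Coprime P k := by
              rw [hPa]; exact Nat.Coprime.pow_left a (hp.coprime_iff_not_dvd.mpr hk)
            have hb := (Nat.Coprime.isCoprime hco)
            obtain ⟨u, v, huv⟩ := hb
            have := congrArg (fun z : ℤ => (z : ZMod m) * i) huv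
            simp only [Int.cast_add, Int.cast_mul, Int.cast_natCast, Int.cast_one, one_mul, add_mul, mul_assoc] at this
            rw [hPi, hi, mul_zero, mul_zero, add_zero] at this
            exact this.symm
          have hgeom : ∑ t ∈ Finset.range k, cI (P : ZMod m) i ^ t = 0 := by
            refine Subtype.ext ?_
            push_cast
            show ∑ t ∈ Finset.range k, chr (P : ZMod m) i ^ t = 0
            rw [geom_sum_eq hne, chr_pow, show ((k : ℕ) : ZMod m) * (P : ZMod m) = 0 by
              rw [← Nat.cast_mul, mul_comm, ← hPk, ZMod.natCast_self], chr_zero_left, sub_self, zero_div]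
          simp only [ζ, ← map_pow, ← map_sum, hgeom, map_zero]
      have hval : ∑ t ∈ Finset.range k, (∑ i, F i * res (cI ((P : ZMod m) * (t : ZMod m)) i)) * ζ (-i₀) ^ t = 0 :=
        Finset.sum_eq_zero fun t _ => by rw [hzero, zero_mul]
      simp only [hmulP, Finset.sum_mul] at hval
      rw [Finset.sum_comm, Finset.sum_eq_single i₀] at hval
      · simp only [mul_assoc, ← mul_pow, ← hζadd, add_neg_cancel, ← Finset.mul_sum] at hval
        rw [horth 0 (mul_zero _), if_pos rfl, mul_eq_zero] at hval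
        have h5 := hval.resolve_right hkκ
        simp only [F] at h5
        rw [dif_pos (fun j hj => w₀.2 j (hj.trans hcls))] at h5
        rw [Pi.zero_apply, ← h5]
        exact congrArg c (Subtype.ext hcls.symm)
      · intro i _ hi
        by_cases hF : F i = 0
        · simp [hF]
        simp only [mul_assoc, ← mul_pow, ← hζadd, ← Finset.mul_sum]
        rw [horth _ (by rw [mul_add, hFsupp i hF, mul_neg, hki₀, neg_zero, add_zero]), if_neg, mul_zero]
        rwa [← sub_eq_add_neg, sub_eq_zero]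
      · intro h; exact absurd (Finset.mem_univ _) h
    have := LinearMap.finrank_le_finrank_of_injective hT
    simpa using this
  -- the block indicators
  have hblock : ∀ β ∈ Bk, ∃ c : W → ℂ, ∀ ξ,
      ∑ w : W, c w * hom S ξ (delta S w.1) = if R ξ = β then 1 else 0 := by
    intro β _
    choose cf hcf using exists_indicator S hm
    -- one representative for each exact value
    let v : ZMod m × Bool → (S.Cl → ℂ) := fun ξ q => hom S ξ (delta S q)
    let reps : Finset (S.Cl → ℂ) := (Finset.univ.filter fun ξ => R ξ = β).image v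
    have hrep : ∀ u ∈ reps, ∃ ξ, R ξ = β ∧ v ξ = u := fun u hu => by simpa [reps] using hu
    choose! rp hrp using hrep
    set c : S.Cl → ℂ := fun q => ∑ u ∈ reps, cf (rp u) q
    have hcE : ∀ ξ, homQ S c ξ = if R ξ = β then 1 else 0 := by
      intro ξ
      have h1 : homQ S c ξ = ∑ u ∈ reps, homQ S (cf (rp u)) ξ := by
        have := homQ_sum S reps (fun _ => (1 : ℂ)) (fun u => cf (rp u)) ξ
        simpa [c] using this
      rw [h1]
      simp only [hcf]
      have hiff : ∀ u ∈ reps, (∀ q, hom S ξ (delta S q) = hom S (rp u) (delta S q)) ↔ v ξ = u := by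
        intro u hu
        exact ⟨fun h => (funext h : v ξ = v (rp u)).trans (hrp u hu).2,
          fun h q => congrFun (h.trans (hrp u hu).2.symm : v ξ = v (rp u)) q⟩
      rw [Finset.sum_congr rfl fun u hu => if_congr (hiff u hu) rfl rfl, Finset.sum_ite_eq]
      refine if_congr ⟨fun h => ?_, fun h => Finset.mem_image_of_mem _ (by simp [h])⟩ rfl rfl
      obtain ⟨η, hη, he⟩ : ∃ η, R η = β ∧ v η = v ξ := by simpa [reps] using h
      rw [← hη]
      funext q
      exact congrArg res (Subtype.ext (congrFun he q).symm)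
    have hW : ∀ q, c q ≠ 0 → ∀ i, S.cls (r i) = q → (k : ZMod m) * i = 0 := by
      intro q hq i hi
      refine hsupp c (fun s d hd => ?_) i (hi ▸ hq)
      simp only [hcE]
      rcases hpair s d hd with ⟨e1, e2⟩ | ⟨e1, e2⟩
      · rw [e1, e2]
      · rw [e1, e2, add_comm]
    refine ⟨fun w => c w.1, fun ξ => ?_⟩
    rw [← hcE, homQ_eq_sum]
    symm
    refine (Finset.sum_filter_of_ne (p := fun q => ∀ i, S.cls (r i) = q → (k : ZMod m) * i = 0) ?_).symm.trans ?_
    · intro q _ hq
      exact hW q (fun h => hq (by rw [h, zero_mul]))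
    · exact Finset.sum_subtype _ (fun q => by simp) _
  -- all functions on those classes are constant on blocks
  have hconst : ∀ c : W → ℂ, ∀ ξ η, R ξ = R η →
      ∑ w : W, c w * hom S ξ (delta S w.1) = ∑ w : W, c w * hom S η (delta S w.1) := by
    let Φ : (W → ℂ) →ₗ[ℂ] (ZMod m × Bool → ℂ) :=
      { toFun := fun c ξ => ∑ w : W, c w * hom S ξ (delta S w.1)
        map_add' := fun c d => by funext ξ; simp [add_mul, Finset.sum_add_distrib]
        map_smul' := fun v c => by funext ξ; simp [Finset.mul_sum, mul_assoc] }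
    let ind : {β // β ∈ Bk} → (ZMod m × Bool → ℂ) := fun β ξ => if R ξ = β.1 then 1 else 0
    have hind : LinearIndependent ℂ ind := by
      rw [Fintype.linearIndependent_iff]
      intro g hg β
      obtain ⟨ξ, -, hξ⟩ := Finset.mem_image.mp β.2
      have := congrFun hg ξ
      rw [Finset.sum_apply, Finset.sum_eq_single β] at this
      · simpa [ind, hξ] using this
      · intro b _ hb
        have hne : β.1 ≠ b.1 := fun h => hb (Subtype.ext h.symm)
        simp [ind, hξ, hne]
      · intro h; exact absurd (Finset.mem_univ _) h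
    have hle : Submodule.span ℂ (Set.range ind) ≤ LinearMap.range Φ := by
      rw [Submodule.span_le]
      rintro F ⟨β, rfl⟩
      obtain ⟨c, hc⟩ := hblock β.1 β.2
      exact ⟨c, funext hc⟩
    have heq : Submodule.span ℂ (Set.range ind) = LinearMap.range Φ := by
      refine Submodule.eq_of_le_of_finrank_le hle ?_
      rw [finrank_span_eq_card hind, Fintype.card_coe]
      exact (LinearMap.finrank_range_le Φ).trans (le_trans (by rw [Module.finrank_fintype_fun_eq_card]) hWle)
    intro c ξ η hR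
    have hmem : Φ c ∈ Submodule.span ℂ (Set.range ind) := heq ▸ LinearMap.mem_range_self Φ c
    obtain ⟨g, hg⟩ := (Submodule.mem_span_range_iff_exists_fun ℂ).mp hmem
    show Φ c ξ = Φ c η
    rw [← hg]
    simp [ind, hR]
  -- the classes in the `p'`-part form an invariant subgroup
  by_contra hcon
  push Not at hcon
  let H : Set (DihedralGroup m) := {z | ∀ i, S.cls (r i) = S.cls z → (k : ZMod m) * i = 0}
  have hHmul : ∀ y ∈ H, ∀ z ∈ H, y * z ∈ H := by
    intro y hy z hz i hi
    set Zf := fmul (delta S (S.cls y)) (delta S (S.cls z)) with hZf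
    have hZr : S.RatF Zf := (ratF_delta S _).mul hm (ratF_delta S _)
    have hhom : ∀ (w : S.Cl), (∀ j, S.cls (r j) = w → (k : ZMod m) * j = 0) → ∀ ξ η, R ξ = R η →
        hom S ξ (delta S w) = hom S η (delta S w) := by
      intro w hw ξ η hR
      have := hconst (fun u => if u = (⟨w, hw⟩ : W) then 1 else 0) ξ η hR
      rw [Fintype.sum_eq_single (⟨w, hw⟩ : W), Fintype.sum_eq_single (⟨w, hw⟩ : W), if_pos rfl, one_mul,
        one_mul] at this
      · exact this
      · intro u hu; rw [if_neg hu, zero_mul]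
      · intro u hu; rw [if_neg hu, zero_mul]
    set c : S.Cl → ℤ := fun q => Zf (Function.surjInv (f := S.cls) Quotient.mk_surjective q) with hcdef
    have hcz : ∀ w, Zf w = c (S.cls w) := fun w =>
      hZr.apply_eq S (Function.surjInv_eq (f := S.cls) Quotient.mk_surjective (S.cls w)).symm
    refine hsupp (fun q => (c q : ℂ)) (fun s d hd => ?_) i ?_
    · simp only [homQ_int]
      rw [show (fun w => c (S.cls w)) = Zf from funext fun w => (hcz w).symm]
      simp only [hZf, hom_mul S (ratF_delta S _)]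
      have hy' := hhom (S.cls y) hy
      have hz' := hhom (S.cls z) hz
      rcases hpair s d hd with ⟨e1, e2⟩ | ⟨e1, e2⟩
      · rw [hy' _ _ e1, hy' _ _ e2, hz' _ _ e1, hz' _ _ e2]
      · rw [hy' _ _ e1, hy' _ _ e2, hz' _ _ e1, hz' _ _ e2, add_comm]
    · rw [hi, ← hcz]
      have hpos : 0 < Zf (y * z) := by
        simp only [hZf, fmul, coeff_mul_apply, coeff_ofFun, delta]
        refine Finset.sum_pos' (fun w _ => mul_nonneg (by split <;> simp) (by split <;> simp))
          ⟨y, Finset.mem_univ _, ?_⟩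
        simp
      exact_mod_cast hpos.ne'
  let Hs : Subgroup (DihedralGroup m) :=
    { carrier := H
      one_mem' := fun i hi => by
        rw [S.cls_eq_one_iff, one_def, r.injEq] at hi
        rw [hi, mul_zero]
      mul_mem' := fun {y z} hy hz => hHmul y hy z hz
      inv_mem' := fun {y} hy i hi => hy i (by rw [hi, S.cls_inv]) }
  rcases S.prim Hs (fun γ hγ y hy i hi => hy i (by rw [hi, S.cls_apply γ hγ])) with h | h
  · exact hx (Subgroup.mem_bot.mp (h ▸ (hcon : x ∈ Hs)))
  · have hk0 : (k : ZMod m) = 0 := by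
      have h1 := (h ▸ Subgroup.mem_top (r (1 : ZMod m)) : r (1 : ZMod m) ∈ Hs) 1 rfl
      rwa [mul_one] at h1
    rw [ZMod.natCast_eq_zero_iff] at hk0
    have hk1 : 0 < k := Nat.pos_of_ne_zero fun h0 => hk (h0 ▸ dvd_zero p)
    have hP1 : 1 < P := hPa ▸ Nat.one_lt_pow (by omega) hp.one_lt
    have := Nat.le_of_dvd hk1 hk0
    nlinarith

end CfsgLib.FGS.DihedralBGroup
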