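import Cfsg.Agent.Lib.FGS.DihedralBGroup.Final

/-!
# Primitive groups with a regular dihedral subgroup
-/

set_option autoImplicit false

namespace CfsgLib.FGS.DihedralBGroup

open MulAction

/-- A primitive group with a regular dihedral subgroup is doubly transitive. -/
theorem two_transitive {G Ω : Type*} [Group G] [MulAction G Ω] [Finite Ω]
    (hprim : IsPreprimitive G Ω) (D : Subgroup G) (m : ℕ) (hD : Nonempty (↥D ≃* DihedralGroup m))
    (hDt : IsPretransitive ↥D Ω) (hDr : ∀ a : Ω, stabilizer ↥D a = ⊥) :
    IsMultiplyPretransitive G Ω 2 := by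
  classical
  have : IsPretransitive G Ω := hprim.toIsPretransitive
  rw [is_two_pretransitive_iff]
  intro b c d f hbc hdf
  have : Nontrivial Ω := ⟨⟨b, c, hbc⟩⟩
  obtain ⟨φ⟩ := hD
  let ι : DihedralGroup m →* G := D.subtype.comp φ.symm.toMonoidHom
  set a := b
  let e : DihedralGroup m ≃ Ω := Equiv.ofBijective (fun x => ι x • a) ⟨fun x y h => by
      have h1 : φ.symm (y⁻¹ * x) ∈ stabilizer D a := by
        show ι (y⁻¹ * x) • a = a
        rw [map_mul, map_inv, mul_smul]
        exact inv_smul_eq_iff.mpr h
      rw [hDr, Subgroup.mem_bot, map_eq_one_iff _ φ.symm.injective, inv_mul_eq_one] at h1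
      exact h1.symm, fun v => by
      obtain ⟨w, hw⟩ := hDt.exists_smul_eq a v
      exact ⟨φ w, by simpa [ι, Subgroup.smul_def] using hw⟩⟩
  have he : ∀ x, e x = ι x • a := fun x => rfl
  have hm0 : m ≠ 0 := by
    rintro rfl
    have : Finite (DihedralGroup 0) := Finite.of_equiv Ω e.symm
    have : Finite (ZMod 0) := Finite.of_injective DihedralGroup.r fun x y h => by simpa using h
    exact not_finite (ZMod 0)
  have : NeZero m := ⟨hm0⟩
  have he1 : e.symm a = 1 := e.symm_apply_eq.mpr (by rw [he, map_one, one_smul])
  suffices hone : ∀ x y : DihedralGroup m, x ≠ 1 → y ≠ 1 → ∃ g ∈ stabilizer G a, g • e x = e y by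
    obtain ⟨g₁, hg₁⟩ := exists_smul_eq G d a
    have h1 : e.symm c ≠ 1 := fun h => hbc (by
      rw [Equiv.symm_apply_eq, he, map_one, one_smul] at h; exact h.symm)
    have h2 : e.symm (g₁ • f) ≠ 1 := fun h => hdf (smul_left_cancel g₁ (by
      rw [Equiv.symm_apply_eq, he, map_one, one_smul] at h; rw [hg₁, h]))
    obtain ⟨g, hg, hgxy⟩ := hone _ _ h1 h2
    rw [Equiv.apply_symm_apply, Equiv.apply_symm_apply] at hgxy
    refine ⟨g₁⁻¹ * g, ?_, ?_⟩
    · rw [mul_smul, show g • a = a from hg, ← hg₁, inv_smul_smul]
    · rw [mul_smul, hgxy, inv_smul_smul]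
  rcases Nat.lt_or_ge m 2 with hlt | hm
  · obtain rfl : m = 1 := by omega
    intro x y hx hy
    refine ⟨1, one_mem _, ?_⟩
    rw [one_smul]
    cases x with
    | r i => exact absurd (by rw [Subsingleton.elim i 0]; rfl) hx
    | sr i =>
      cases y with
      | r j => exact absurd (by rw [Subsingleton.elim j 0]; rfl) hy
      | sr j => rw [Subsingleton.elim i j]
  let act : stabilizer G a →* Equiv.Perm (DihedralGroup m) :=
    { toFun := fun g => (e.trans (MulAction.toPerm (g : G))).trans e.symm
      map_one' := by ext x; simp
      map_mul' := fun g h => by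
        ext x
        simp [mul_smul] }
  have hact : ∀ (g : stabilizer G a) x, e (act g x) = (g : G) • e x := fun g x => e.apply_symm_apply _
  let S : Sys m :=
    { Γ := act.range
      map_one' := by
        rintro _ ⟨g, rfl⟩
        refine e.injective ?_
        rw [hact, he, map_one, one_smul]
        exact g.2
      shift := by
        rintro _ ⟨g, rfl⟩ x
        have hst : (ι (act g x))⁻¹ * (g : G) * ι x ∈ stabilizer G a := by
          rw [mem_stabilizer_iff, mul_smul, mul_smul, ← he, ← hact, he, inv_smul_smul]
        refine ⟨act ⟨_, hst⟩, ⟨_, rfl⟩, fun z => e.injective ?_⟩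
        rw [hact, he (x⁻¹ * z), he ((act g x)⁻¹ * act g z), map_mul, map_mul, map_inv, map_inv, mul_smul, mul_smul,
          mul_smul, mul_smul, smul_inv_smul, ← he (act g z), hact g z, he z]
      prim := fun H hH => by
        have hH' : ∀ g : stabilizer G a, ∀ x ∈ H, e.symm ((g : G) • e x) ∈ H := fun g x hx =>
          hH (act g) ⟨g, rfl⟩ x hx
        let M : Subgroup G :=
          { carrier := {g | e.symm (g • a) ∈ H}
            one_mem' := by
              show e.symm ((1 : G) • a) ∈ H
              rw [one_smul, he1]
              exact one_mem H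
            mul_mem' := fun {g h} hg hh => by
              show e.symm ((g * h) • a) ∈ H
              set u := e.symm (g • a) with hu
              set w := e.symm (h • a) with hw
              have hu' : ι u • a = g • a := by rw [← he, Equiv.apply_symm_apply]
              have hw' : ι w • a = h • a := by rw [← he, Equiv.apply_symm_apply]
              have hst : (ι u)⁻¹ * g ∈ stabilizer G a := by
                rw [mem_stabilizer_iff, mul_smul, ← hu', inv_smul_smul]
              have h2 : e.symm ((g * h) • a) = u * e.symm (((ι u)⁻¹ * g) • e w) := by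
                rw [Equiv.symm_apply_eq, he (u * _), map_mul, mul_smul, mul_smul,
                  ← he (e.symm _), Equiv.apply_symm_apply, he w, hw', mul_smul, smul_inv_smul]
              rw [h2]
              exact mul_mem hg (hH' ⟨_, hst⟩ w hh)
            inv_mem' := fun {g} hg => by
              show e.symm (g⁻¹ • a) ∈ H
              set u := e.symm (g • a) with hu
              have hu' : ι u • a = g • a := by rw [← he, Equiv.apply_symm_apply]
              have hst : g⁻¹ * ι u ∈ stabilizer G a := by
                rw [mem_stabilizer_iff, mul_smul, hu', inv_smul_smul]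
              have h2 : g⁻¹ • a = (g⁻¹ * ι u) • e u⁻¹ := by
                rw [he, map_inv, mul_smul, smul_inv_smul]
              rw [h2]
              exact hH' ⟨_, hst⟩ _ (inv_mem hg) }
        have hle : stabilizer G a ≤ M := fun g hg => by
          show e.symm (g • a) ∈ H
          rw [show g • a = a from hg, he1]
          exact one_mem H
        have hHM : ∀ x, x ∈ H ↔ ι x ∈ M := fun x => by
          show _ ↔ e.symm (ι x • a) ∈ H
          rw [← he, Equiv.symm_apply_apply]
        rcases ((isCoatom_stabilizer_iff_preprimitive (G := G) a).mpr hprim).le_iff.mp hle with h | h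
        · right
          exact eq_top_iff.mpr fun x _ => (hHM x).mpr (h ▸ Subgroup.mem_top _)
        · left
          refine eq_bot_iff.mpr fun x hx => ?_
          have h1 : ι x • a = a := by
            have := (hHM x).mp hx
            rwa [h, mem_stabilizer_iff] at this
          exact Subgroup.mem_bot.mpr (e.injective (by rw [he, he, h1, map_one, one_smul])) }
  intro x y hx hy
  obtain ⟨_, ⟨g, rfl⟩, hg⟩ := S.transitive hm x y hx hy
  exact ⟨g, g.2, by rw [← hact, hg]⟩

end CfsgLib.FGS.DihedralBGroup
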