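import Cfsg.Agent.Lib.FGS.DihedralBGroup.Blocks

/-!
# Translation invariance of the classes

For a suitable prime `p ∣ m` all classes but two are invariant, on the rotations, under the subgroup
of order `p`; hence there are at most three classes.
-/

set_option autoImplicit false

noncomputable section

namespace CfsgLib.FGS.DihedralBGroup

open DihedralGroup
open scoped ComplexConjugate

variable {m : ℕ} [NeZero m]

theorem exists_unit_mul (i : ZMod m) :
    ∃ u : (ZMod m)ˣ, i = ((m / addOrderOf i : ℕ) : ZMod m) * (u : ZMod m) := by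
  have hord : addOrderOf i = m / m.gcd i.val := by
    conv_lhs => rw [← ZMod.natCast_zmod_val i]
    rw [ZMod.addOrderOf_coe _ (NeZero.ne m)]
  set g := m.gcd i.val with hg
  have hgm : g ∣ m := Nat.gcd_dvd_left _ _
  have hgi : g ∣ i.val := Nat.gcd_dvd_right _ _
  have hgpos : 0 < g := Nat.gcd_pos_of_pos_left _ (Nat.pos_of_ne_zero (NeZero.ne m))
  have hco : Nat.Coprime (i.val / g) (m / g) := (Nat.coprime_div_gcd_div_gcd hgpos).symm
  have hd : m / g ∣ m := Nat.div_dvd_of_dvd hgm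
  haveI : NeZero (m / g) := ⟨(Nat.div_pos (Nat.le_of_dvd (Nat.pos_of_ne_zero (NeZero.ne m)) hgm) hgpos).ne'⟩
  obtain ⟨u, hu⟩ := ZMod.unitsMap_surjective hd (ZMod.unitOfCoprime _ hco)
  refine ⟨u, ?_⟩
  rw [hord, Nat.div_div_self hgm (NeZero.ne m)]
  have h1 : (((u : ZMod m)).val : ZMod (m / g)) = ((i.val / g : ℕ) : ZMod (m / g)) := by
    have := congrArg (fun v : (ZMod (m / g))ˣ => (v : ZMod (m / g))) hu
    simp only [ZMod.coe_unitOfCoprime, ZMod.unitsMap_val] at this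
    rwa [ZMod.cast_eq_val] at this
  rw [ZMod.natCast_eq_natCast_iff] at h1
  have h2 := Nat.ModEq.mul_left' g h1
  rw [Nat.mul_div_cancel' hgm, Nat.mul_div_cancel' hgi] at h2
  have h3 := (ZMod.natCast_eq_natCast_iff _ _ _).mpr h2
  rw [Nat.cast_mul, ZMod.natCast_zmod_val, ZMod.natCast_zmod_val] at h3
  exact h3.symm

theorem addOrderOf_dvd_self (i : ZMod m) : addOrderOf i ∣ m :=
  addOrderOf_dvd_of_nsmul_eq_zero (by rw [nsmul_eq_mul, ZMod.natCast_self, zero_mul])

variable (S : Sys m)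

theorem Sys.cls_eq_of_addOrderOf {i j : ZMod m} (h : addOrderOf i = addOrderOf j) :
    S.cls (r i) = S.cls (r j) := by
  obtain ⟨u, hu⟩ := exists_unit_mul i
  obtain ⟨v, hv⟩ := exists_unit_mul j
  rw [← h] at hv
  rw [hu, hv, mul_comm, S.cls_unit_mul, mul_comm, S.cls_unit_mul]

theorem Sys.cls_eq_of_mul_eq {p : ℕ} (hp : p.Prime) {i j : ZMod m} (h : (p : ZMod m) * i = (p : ZMod m) * j)
    (hi : p ∣ addOrderOf i) (hj : p ∣ addOrderOf j) : S.cls (r i) = S.cls (r j) := by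
  refine S.cls_eq_of_addOrderOf ?_
  have h1 : addOrderOf (p • i) = addOrderOf i / (addOrderOf i).gcd p := addOrderOf_nsmul i
  have h2 : addOrderOf (p • j) = addOrderOf j / (addOrderOf j).gcd p := addOrderOf_nsmul j
  rw [nsmul_eq_mul, Nat.gcd_eq_right hi] at h1
  rw [nsmul_eq_mul, Nat.gcd_eq_right hj, ← h, h1] at h2
  obtain ⟨a, ha⟩ := hi
  obtain ⟨b, hb⟩ := hj
  rw [ha, hb] at h2 ⊢
  rw [Nat.mul_div_cancel_left _ hp.pos, Nat.mul_div_cancel_left _ hp.pos] at h2
  rw [h2]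

/-- The chosen element of order `p`. -/
abbrev xz (m p : ℕ) : ZMod m := ((m / p : ℕ) : ZMod m)

theorem mul_xz {p : ℕ} (hpm : p ∣ m) : (p : ZMod m) * xz m p = 0 := by
  rw [xz, ← Nat.cast_mul, Nat.mul_div_cancel' hpm, ZMod.natCast_self]

theorem xz_ne_zero {p : ℕ} (hp : p.Prime) (hpm : p ∣ m) : xz m p ≠ 0 := by
  intro h
  rw [xz, ZMod.natCast_eq_zero_iff] at h
  have hm0 := Nat.pos_of_ne_zero (NeZero.ne m)
  have := Nat.le_of_dvd (Nat.div_pos (Nat.le_of_dvd hm0 hpm) hp.pos) h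
  exact absurd this (Nat.not_le.mpr (Nat.div_lt_self hm0 hp.one_lt))

theorem exists_mul_xz {p : ℕ} (hp : p.Prime) (hpm : p ∣ m) {d : ZMod m} (hd : (p : ZMod m) * d = 0) :
    ∃ v < p, d = (v : ZMod m) * xz m p := by
  rw [← ZMod.natCast_zmod_val d, ← Nat.cast_mul, ZMod.natCast_eq_zero_iff] at hd
  obtain ⟨v, hv⟩ : m / p ∣ d.val := (Nat.div_dvd_iff_dvd_mul hpm hp.pos).mpr hd
  refine ⟨v, ?_, ?_⟩
  · by_contra hcon
    push Not at hcon
    have h1 : m / p * p ≤ m / p * v := Nat.mul_le_mul_left _ hcon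
    rw [Nat.div_mul_cancel hpm, ← hv] at h1
    exact absurd h1 (Nat.not_le.mpr (ZMod.val_lt d))
  · conv_lhs => rw [← ZMod.natCast_zmod_val d, hv, Nat.cast_mul]
    rw [mul_comm]

theorem addOrderOf_xz {p : ℕ} (hp : p.Prime) (hpm : p ∣ m) {v : ℕ} (hv : ¬ p ∣ v) :
    addOrderOf ((v : ZMod m) * xz m p) = p := by
  have := Fact.mk hp
  refine addOrderOf_eq_prime (by rw [nsmul_eq_mul, mul_left_comm, mul_xz hpm, mul_zero]) fun h => ?_
  rw [xz, ← Nat.cast_mul, ZMod.natCast_eq_zero_iff] at h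
  obtain ⟨t, ht⟩ := hpm
  rw [ht, Nat.mul_div_cancel_left _ hp.pos] at h
  have ht0 : 0 < t := Nat.pos_of_ne_zero fun h0 => NeZero.ne m (by rw [ht, h0, mul_zero])
  exact hv (Nat.dvd_of_mul_dvd_mul_right ht0 h)

variable {S}

theorem Sys.RatF.pow (hm : 2 ≤ m) {φ : DihedralGroup m → ℤ} (h : S.RatF φ) :
    ∀ n : ℕ, S.RatF fun z => (ofFun φ ^ n).coeff z
  | 0 => by
    classical
    have e : (fun z => (ofFun φ ^ 0).coeff z) = fun z => (fun q => if q = S.cls 1 then (1 : ℤ) else 0) (S.cls z) := by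
      funext z
      simp only [pow_zero, MonoidAlgebra.one_def, MonoidAlgebra.coeff_single, Finsupp.single_apply, S.cls_eq_one_iff,
        eq_comm (a := (1 : DihedralGroup m))]
    rw [e]
    exact S.ratF_cls fun q => if q = S.cls 1 then (1 : ℤ) else 0
  | n + 1 => by
    have e : (fun z => (ofFun φ ^ (n + 1)).coeff z) =
        fun z => (ofFun (fun w => (ofFun φ ^ n).coeff w) * ofFun φ).coeff z := by
      rw [← coeff_mapfun (ofFun φ ^ n) _ (fun _ => rfl), ← pow_succ]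
    rw [e]
    exact (Sys.RatF.pow hm h n).mul hm h

variable (S)

/-- For an odd prime the rotation parts of `p`-th powers vanish mod `p` off the identity. -/
theorem Sys.fibre_sum_eq_zero (hm : 2 ≤ m) {p : ℕ} [Fact p.Prime] (hp2 : p ≠ 2) (hpm : p ∣ m)
    {φ : DihedralGroup m → ℤ} (hφ : S.RatF φ) {z : ZMod m} (hz : z ≠ 0) :
    ((ofFun φ ^ p).coeff (r z) : ZMod p) = 0 ∧
      (∑ l ∈ Finset.univ.filter (fun l : ZMod m => (p : ZMod m) * l = z), (φ (r l) : ZMod p)) = 0 := by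
  have hp : p.Prime := Fact.out
  have key : ∀ w, ((ofFun φ ^ p).coeff (r w) : ZMod p) =
      ∑ l ∈ Finset.univ.filter (fun l : ZMod m => (p : ZMod m) * l = w), (φ (r l) : ZMod p) := by
    intro w
    have h1 := ((Sys.invA_ofFun hφ.1).modq p).pow_prime_r p hp2 w
    have h2 : modq p (ofFun φ) ^ p = modq p (ofFun φ ^ p) :=
      (map_pow (MonoidAlgebra.mapRingHom _ (Int.castRingHom (ZMod p))) _ _).symm
    rw [h2, coeff_modq] at h1
    simpa [coeff_modq, coeff_ofFun] using h1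
  suffices h : ((ofFun φ ^ p).coeff (r z) : ZMod p) = 0 from ⟨h, by rw [← key, h]⟩
  set a := m.factorization p
  have ha : 1 ≤ a := hp.factorization_pos_of_dvd (NeZero.ne m) hpm
  set P := p ^ a
  set k := m / p ^ a
  have hPk : m = P * k := (Nat.ordProj_mul_ordCompl_eq_self m p).symm
  have hk : ¬ p ∣ k := Nat.not_dvd_ordCompl hp (NeZero.ne m)
  obtain ⟨i, hi, hki⟩ := exists_not_pPrime S hm hp hp2 hPk ⟨a, ha, rfl⟩ hk (r z)
    (by rw [one_def, Ne, r.injEq]; exact hz)
  have h3 := (Sys.RatF.pow hm hφ p).apply_eq S hi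
  rw [← h3, key]
  have hordi : p ∣ addOrderOf i := by
    by_contra hnd
    apply hki
    have hd : addOrderOf i ∣ P * k := hPk ▸ addOrderOf_dvd_self i
    have hco : Nat.Coprime (addOrderOf i) P := (Nat.Coprime.pow_right a ((hp.coprime_iff_not_dvd.mpr hnd).symm))
    have := (addOrderOf_dvd_iff_nsmul_eq_zero).mp (hco.dvd_of_dvd_mul_left hd)
    rwa [nsmul_eq_mul] at this
  rcases (Finset.univ.filter (fun l : ZMod m => (p : ZMod m) * l = i)).eq_empty_or_nonempty with h0 | ⟨l₀, hl₀⟩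
  · rw [h0, Finset.sum_empty]
  rw [Finset.mem_filter] at hl₀
  have hord : ∀ l, (p : ZMod m) * l = i → p ∣ addOrderOf l := by
    intro l hl
    refine hordi.trans ?_
    rw [← hl, ← nsmul_eq_mul]
    exact addOrderOf_dvd_of_nsmul_eq_zero (by rw [← mul_nsmul', mul_comm, mul_nsmul', addOrderOf_nsmul_eq_zero, nsmul_zero])
  have hconst : ∀ l ∈ Finset.univ.filter (fun l : ZMod m => (p : ZMod m) * l = i),
      (φ (r l) : ZMod p) = (φ (r l₀) : ZMod p) := by
    intro l hl
    rw [Finset.mem_filter] at hl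
    rw [hφ.apply_eq S (S.cls_eq_of_mul_eq hp (hl.2.trans hl₀.2.symm) (hord l hl.2) (hord l₀ hl₀.2))]
  rw [Finset.sum_congr rfl hconst, Finset.sum_const]
  have hcard : (Finset.univ.filter (fun l : ZMod m => (p : ZMod m) * l = i)).card = p := by
    have : (Finset.range p).card = (Finset.univ.filter (fun l : ZMod m => (p : ZMod m) * l = i)).card := by
      refine Finset.card_bij (fun v _ => l₀ + (v : ZMod m) * xz m p) ?_ ?_ ?_
      · intro v _
        rw [Finset.mem_filter, mul_add, hl₀.2, mul_left_comm, mul_xz hpm, mul_zero, add_zero]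
        exact ⟨Finset.mem_univ _, rfl⟩
      · intro v hv w hw h
        rw [Finset.mem_range] at hv hw
        have h' := add_left_cancel h
        rw [xz, ← Nat.cast_mul, ← Nat.cast_mul, ZMod.natCast_eq_natCast_iff] at h'
        have hmp : m = p * (m / p) := (Nat.mul_div_cancel' hpm).symm
        have hlt : ∀ {x}, x < p → x * (m / p) < m := fun {x} hx => by
          calc x * (m / p) < p * (m / p) := Nat.mul_lt_mul_of_pos_right hx
                (Nat.div_pos (Nat.le_of_dvd (Nat.pos_of_ne_zero (NeZero.ne m)) hpm) hp.pos)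
            _ = m := hmp.symm
        have := Nat.ModEq.eq_of_lt_of_lt h' (hlt hv) (hlt hw)
        exact Nat.eq_of_mul_eq_mul_right (Nat.div_pos (Nat.le_of_dvd (Nat.pos_of_ne_zero (NeZero.ne m)) hpm) hp.pos) this
      · intro l hl
        rw [Finset.mem_filter] at hl
        obtain ⟨v, hv, he⟩ := exists_mul_xz hp hpm (d := l - l₀) (by rw [mul_sub, hl.2, hl₀.2, sub_self])
        exact ⟨v, Finset.mem_range.mpr hv, by rw [← he, add_sub_cancel]⟩
    rw [← this, Finset.card_range]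
  rw [hcard, nsmul_eq_mul, ZMod.natCast_self, zero_mul]

/-- The prime used for the translations. -/
def Good (m p : ℕ) : Prop := p.Prime ∧ p ∣ m ∧ (p = 2 → ∃ a, m = 2 ^ a)

omit [NeZero m] in
theorem exists_good (hm : 2 ≤ m) : ∃ p, Good m p := by
  by_cases h : ∃ p, p.Prime ∧ p ∣ m ∧ p ≠ 2
  · obtain ⟨p, hp, hpm, h2⟩ := h
    exact ⟨p, hp, hpm, fun h => absurd h h2⟩
  · push Not at h
    have h1 := Nat.eq_prime_pow_of_unique_prime_dvd (p := 2) (by omega) fun {d} hd hdm => h d hd hdm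
    refine ⟨2, Nat.prime_two, ?_, fun _ => ⟨_, h1⟩⟩
    rw [h1]
    exact dvd_pow_self 2 (fun h0 => by rw [h0, pow_zero] at h1; omega)

/-- Outside two classes, the classes on rotations are invariant under the translation. -/
theorem Sys.cls_add_xz (hm : 2 ≤ m) {p : ℕ} (hg : Good m p) {i : ZMod m} (hi0 : i ≠ 0)
    (hi : S.cls (r i) ≠ S.cls (r (xz m p))) :
    i + xz m p ≠ 0 ∧ S.cls (r (i + xz m p)) = S.cls (r i) := by
  classical
  obtain ⟨hp, hpm, h2⟩ := hg
  have := Fact.mk hp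
  have hT : ∀ d : ZMod m, d ≠ 0 → (p : ZMod m) * d = 0 → S.cls (r d) = S.cls (r (xz m p)) := by
    intro d hd0 hd
    obtain ⟨v, hv, rfl⟩ := exists_mul_xz hp hpm hd
    have hv0 : ¬ p ∣ v := fun h => hd0 (by rw [Nat.eq_zero_of_dvd_of_lt h hv, Nat.cast_zero, zero_mul])
    refine S.cls_eq_of_addOrderOf ((addOrderOf_xz hp hpm hv0).trans ?_)
    have := addOrderOf_xz (m := m) hp hpm (v := 1) (fun h => hp.ne_one (Nat.dvd_one.mp h))
    rw [Nat.cast_one, one_mul] at this
    exact this.symm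
  set j := i + xz m p
  have hij : (p : ZMod m) * j = (p : ZMod m) * i := by rw [mul_add, mul_xz hpm, add_zero]
  have hpi : (p : ZMod m) * i ≠ 0 := fun h => hi (hT i hi0 h)
  refine ⟨fun h => hpi (by rw [← hij, h, mul_zero]), ?_⟩
  by_contra hne
  have huniq : ∀ l l' : ZMod m, (p : ZMod m) * l = (p : ZMod m) * i → (p : ZMod m) * l' = (p : ZMod m) * i →
      ¬ p ∣ addOrderOf l → ¬ p ∣ addOrderOf l' → l = l' := by
    intro l l' hl hl' h h'
    rw [← sub_eq_zero]
    have hd : (p : ZMod m) * (l - l') = 0 := by rw [mul_sub, hl, hl', sub_self]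
    have h1 : addOrderOf (l - l') ∣ p := addOrderOf_dvd_of_nsmul_eq_zero (by rw [nsmul_eq_mul]; exact hd)
    have h2 : addOrderOf (l - l') ∣ addOrderOf l * addOrderOf l' := addOrderOf_dvd_of_nsmul_eq_zero (by
      rw [nsmul_sub, mul_nsmul, addOrderOf_nsmul_eq_zero, nsmul_zero,
        mul_nsmul', addOrderOf_nsmul_eq_zero, nsmul_zero, sub_zero])
    have h3 : Nat.Coprime p (addOrderOf l * addOrderOf l') :=
      (hp.coprime_iff_not_dvd.mpr h).mul_right (hp.coprime_iff_not_dvd.mpr h')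
    exact AddMonoid.addOrderOf_eq_one_iff.mp (Nat.eq_one_of_dvd_coprimes h3 h1 h2)
  -- one of `i`, `j` is the exceptional root
  obtain ⟨l₀, l₁, hl₀, hl₁, h0, hcne⟩ : ∃ l₀ l₁, (p : ZMod m) * l₀ = (p : ZMod m) * i ∧
      (p : ZMod m) * l₁ = (p : ZMod m) * i ∧ ¬ p ∣ addOrderOf l₀ ∧ S.cls (r l₁) ≠ S.cls (r l₀) := by
    by_cases h : p ∣ addOrderOf i
    · by_cases h' : p ∣ addOrderOf j
      · exact absurd (S.cls_eq_of_mul_eq hp hij h' h) hne
      · exact ⟨j, i, hij, rfl, h', fun e => hne e.symm⟩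
    · exact ⟨i, j, rfl, hij, h, hne⟩
  have hl₁p : p ∣ addOrderOf l₁ := by
    by_contra h
    exact hcne (by rw [huniq l₁ l₀ hl₁ hl₀ h h0])
  have hl₀0 : l₀ ≠ 0 := fun h => hpi (by rw [← hl₀, h, mul_zero])
  rcases eq_or_ne p 2 with rfl | hp2
  · obtain ⟨a, ha⟩ := h2 rfl
    have hd : addOrderOf l₀ ∣ 2 ^ a := ha ▸ addOrderOf_dvd_self l₀
    obtain ⟨b, -, hb⟩ := (Nat.dvd_prime_pow Nat.prime_two).mp hd
    rcases b with _ | b
    · exact hl₀0 (AddMonoid.addOrderOf_eq_one_iff.mp (by rw [hb, pow_zero]))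
    · exact h0 (hb ▸ dvd_pow_self 2 b.succ_ne_zero)
  · have h := (S.fibre_sum_eq_zero hm hp2 hpm (ratF_delta S (S.cls (r l₀))) hpi).2
    rw [Finset.sum_eq_single l₀] at h
    · simp [delta] at h
    · intro l hl hne'
      rw [Finset.mem_filter] at hl
      have : S.cls (r l) ≠ S.cls (r l₀) := by
        intro e
        by_cases hlp : p ∣ addOrderOf l
        · exact hcne ((S.cls_eq_of_mul_eq hp (hl₁.trans hl.2.symm) hl₁p hlp).trans e)
        · exact hne' (huniq l l₀ hl.2 hl₀ hlp h0)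
      simp [delta, this]
    · intro hh
      exact (hh (Finset.mem_filter.mpr ⟨Finset.mem_univ _, hl₀⟩)).elim

/-- Class functions equal on the two exceptional classes are periodic on rotations. -/
theorem Sys.periodic (hm : 2 ≤ m) {p : ℕ} (hg : Good m p) {φ : DihedralGroup m → ℤ} (hφ : S.RatF φ)
    (h1 : φ (r (xz m p)) = φ 1) (i : ZMod m) : φ (r (i + xz m p)) = φ (r i) := by
  by_cases hi : i = 0 ∨ S.cls (r i) = S.cls (r (xz m p))
  · have hbad : φ (r i) = φ 1 := by
      rcases hi with rfl | hi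
      · rw [one_def]
      · rw [hφ.apply_eq S hi, h1]
    rw [hbad]
    by_cases hj : i + xz m p = 0 ∨ S.cls (r (i + xz m p)) = S.cls (r (xz m p))
    · rcases hj with hj | hj
      · rw [hj, one_def]
      · rw [hφ.apply_eq S hj, h1]
    push Not at hj
    have hiter : ∀ n : ℕ, i + xz m p + (n : ZMod m) * xz m p ≠ 0 ∧
        S.cls (r (i + xz m p + (n : ZMod m) * xz m p)) = S.cls (r (i + xz m p)) := by
      intro n
      induction n with
      | zero => simpa using hj.1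
      | succ n ih =>
        rw [Nat.cast_add, Nat.cast_one, add_mul, one_mul, ← add_assoc]
        obtain ⟨e1, e2⟩ := S.cls_add_xz hm hg ih.1 (by rw [ih.2]; exact hj.2)
        exact ⟨e1, e2.trans ih.2⟩
    obtain ⟨e1, e2⟩ := hiter (p - 1)
    have he : i + xz m p + ((p - 1 : ℕ) : ZMod m) * xz m p = i := by
      rw [Nat.cast_sub hg.1.one_le, sub_mul, Nat.cast_one, one_mul, mul_xz hg.2.1]
      ring
    rw [he] at e2
    rw [← hφ.apply_eq S e2, hbad]
  · push Not at hi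
    exact hφ.apply_eq S (S.cls_add_xz hm hg hi.1 hi.2).2

variable {S}

theorem hat_eq_zero_of_periodic {f : ZMod m → ℂ} {d s : ZMod m} (hf : ∀ i, f (i + d) = f i)
    (hs : s * d ≠ 0) : hat f s = 0 := by
  have h := hat_shift f d s
  rw [show (fun i => f (i + d)) = f from funext hf] at h
  have hne : chr s (-d) ≠ 1 := by rw [Ne, chr_eq_one_iff, mul_neg, neg_eq_zero]; exact hs
  by_contra h0
  exact hne (mul_right_cancel₀ h0 (by rw [one_mul]; exact h.symm))

theorem eq_of_hat_eq {f g : ZMod m → ℂ} (h : ∀ s, hat f s = hat g s) : f = g := by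
  funext i
  refine mul_left_cancel₀ (Nat.cast_ne_zero.mpr (NeZero.ne m) : (m : ℂ) ≠ 0) ?_
  rw [← hat_inv, ← hat_inv]
  simp only [h]

/-- The constant attached to two periodic functions. -/
def Sys.mu (_ : Sys m) (p : ℕ) (φ ψ : DihedralGroup m → ℤ) : ℤ :=
  fmul φ ψ 1 - fmul φ ψ (r (xz m p))

theorem Sys.mu_spec (hm : 2 ≤ m) {p : ℕ} (hg : Good m p) {φ ψ : DihedralGroup m → ℤ} (hφ : S.RatF φ)
    (hψ : S.RatF ψ) (h1 : φ (r (xz m p)) = φ 1) (h2 : ψ (r (xz m p)) = ψ 1) {s : ZMod m}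
    (hs : s * xz m p ≠ 0) : aC φ s = 0 ∧ bT ψ s * conj (bT φ s) = (S.mu p φ ψ : ℂ) := by
  classical
  have ha : ∀ {χ : DihedralGroup m → ℤ}, S.RatF χ → χ (r (xz m p)) = χ 1 → aC χ s = 0 := fun {χ} hχ h =>
    hat_eq_zero_of_periodic (fun i => by rw [S.periodic hm hg hχ h]) hs
  refine ⟨ha hφ h1, ?_⟩
  set Z := fmul φ ψ
  have hZ : S.RatF Z := hφ.mul hm hψ
  set χ : DihedralGroup m → ℤ := fun z => Z z - (if z = 1 then S.mu p φ ψ else 0)
  have hχ : S.RatF χ := by
    refine ⟨hZ.1.comp₂ (φ := Z) (ψ := fun z => if z = 1 then S.mu p φ ψ else 0) ?_ fun a b => a - b, fun u i => ?_⟩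
    · intro γ hγ z
      have : γ z = 1 ↔ z = 1 := ⟨fun h => γ.injective (by rw [h, S.map_one' γ hγ]),
        fun h => by rw [h, S.map_one' γ hγ]⟩
      simp only [this]
    · simp only [χ, hZ.2, one_def, r.injEq, Units.mul_right_eq_zero]
  have hχ1 : χ (r (xz m p)) = χ 1 := by
    have : r (xz m p) ≠ (1 : DihedralGroup m) := by
      rw [one_def, Ne, r.injEq]; exact xz_ne_zero hg.1 hg.2.1
    simp only [χ, if_neg this, if_true, Sys.mu, Z]
    ring
  have h3 := ha hχ hχ1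
  have h4 : aC χ s = aC Z s - (S.mu p φ ψ : ℂ) := by
    simp only [aC, hat, χ, one_def, r.injEq, Int.cast_sub, sub_mul, Finset.sum_sub_distrib, apply_ite (Int.cast : ℤ → ℂ),
      Int.cast_zero, ite_mul, zero_mul, Finset.sum_ite_eq', Finset.mem_univ, if_true, chr_zero, mul_one]
  rw [h3] at h4
  simp only [Z] at h4
  rw [aC_fmul, ha hφ h1, zero_mul, zero_add] at h4
  linear_combination -h4

theorem Sys.not_periodic (hm : 2 ≤ m) {p : ℕ} (hg : Good m p) {φ : DihedralGroup m → ℤ} (hφ : S.RatF φ)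
    (h1 : φ (r (xz m p)) = φ 1) (hg' : ∀ i, φ (sr (i + xz m p)) = φ (sr i)) : ∀ z, φ z = φ 1 := by
  refine hφ.1.const_of_period (w := r (xz m p)) (by rw [one_def, Ne, r.injEq]; exact xz_ne_zero hg.1 hg.2.1) ?_
  intro z
  cases z with
  | r i => rw [r_mul_r, add_comm]; exact S.periodic hm hg hφ h1 i
  | sr i =>
    rw [r_mul_sr]
    have := hg' (i - xz m p)
    rw [sub_add_cancel] at this
    exact this.symm

theorem Sys.shift_eq (hm : 2 ≤ m) {p : ℕ} (hg : Good m p) {φ ψ : DihedralGroup m → ℤ} (hφ : S.RatF φ)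
    (hψ : S.RatF ψ) (h1 : φ (r (xz m p)) = φ 1) (h2 : ψ (r (xz m p)) = ψ 1) (i : ZMod m) :
    (S.mu p φ φ : ℂ) * ((ψ (sr (i + xz m p)) : ℂ) - ψ (sr i)) =
      (S.mu p φ ψ : ℂ) * ((φ (sr (i + xz m p)) : ℂ) - φ (sr i)) := by
  refine congrFun (eq_of_hat_eq (f := fun i => (S.mu p φ φ : ℂ) * ((ψ (sr (i + xz m p)) : ℂ) - ψ (sr i)))
    (g := fun i => (S.mu p φ ψ : ℂ) * ((φ (sr (i + xz m p)) : ℂ) - φ (sr i))) fun s => ?_) i
  have key : ∀ (a : ℂ) (f : ZMod m → ℂ), hat (fun i => a * (f (i + xz m p) - f i)) s =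
      a * ((chr s (-xz m p) - 1) * hat f s) := by
    intro a f
    rw [sub_mul, one_mul, ← hat_shift]
    simp only [hat, sub_mul, mul_sub, Finset.sum_sub_distrib, Finset.mul_sum, mul_assoc]
  rw [key _ fun i => (ψ (sr i) : ℂ), key _ fun i => (φ (sr i) : ℂ)]
  by_cases hs : s * xz m p = 0
  · rw [show chr s (-xz m p) = 1 by rw [chr_eq_one_iff, mul_neg, hs, neg_zero]]
    ring
  obtain ⟨-, e1⟩ := Sys.mu_spec hm hg hφ hφ h1 h1 hs
  obtain ⟨-, e2⟩ := Sys.mu_spec hm hg hφ hψ h1 h2 hs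
  rw [← e1, ← e2]
  unfold bT
  ring

/-- With a class outside the two exceptional ones, its indicator `φ` satisfies `φ² = E + cJ`. -/
theorem Sys.exists_design (hm : 2 ≤ m) {p : ℕ} (hg : Good m p) {q₀ : S.Cl} (hq1 : q₀ ≠ S.cls 1)
    (hqT : q₀ ≠ S.cls (r (xz m p))) :
    ∃ E c : ℤ, E ≠ 0 ∧ ∀ z, fmul (delta S q₀) (delta S q₀) z = c + if z = 1 then E else 0 := by
  classical
  set x0 := xz m p
  have hex : ∀ q : S.Cl, q ≠ S.cls 1 → q ≠ S.cls (r x0) →
      delta S q 1 = 0 ∧ delta S q (r x0) = delta S q 1 ∧ ∃ z, delta S q z = 1 := by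
    intro q h1 hT
    obtain ⟨z, hz⟩ := Quotient.mk_surjective q
    refine ⟨if_neg (Ne.symm h1), ?_, z, if_pos hz⟩
    simp only [delta]
    rw [if_neg (Ne.symm h1), if_neg (Ne.symm hT)]
  have hnp : ∀ q : S.Cl, q ≠ S.cls 1 → q ≠ S.cls (r x0) →
      ¬ ∀ i, delta S q (sr (i + x0)) = delta S q (sr i) := by
    intro q h1 hT hper
    obtain ⟨a0, a1, z, hz⟩ := hex q h1 hT
    have := Sys.not_periodic hm hg (ratF_delta S q) a1 hper z
    omega
  obtain ⟨b0, b1, -⟩ := hex q₀ hq1 hqT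
  set φ := delta S q₀
  have hφ : S.RatF φ := ratF_delta S q₀
  have hμ : S.mu p φ φ ≠ 0 := by
    intro h0
    refine hnp q₀ hq1 hqT fun i => ?_
    have hb : ∀ s, (chr s (-x0) - 1) * bT φ s = 0 := by
      intro s
      by_cases hs : s * x0 = 0
      · rw [show chr s (-x0) = 1 by rw [chr_eq_one_iff, mul_neg, hs, neg_zero], sub_self, zero_mul]
      · obtain ⟨-, e⟩ := Sys.mu_spec hm hg hφ hφ b1 b1 hs
        rw [h0, Int.cast_zero, Complex.mul_conj', sq_eq_zero_iff, Complex.ofReal_eq_zero, norm_eq_zero] at e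
        rw [e, mul_zero]
    have : (fun i => (φ (sr (i + x0)) : ℂ)) = fun i => (φ (sr i) : ℂ) := eq_of_hat_eq fun s => by
      rw [hat_shift (fun i => (φ (sr i) : ℂ))]
      have := hb s
      rw [bT] at this
      linear_combination this
    exact_mod_cast congrFun this i
  obtain ⟨i₁, hi₁⟩ : ∃ i, φ (sr (i + x0)) ≠ φ (sr i) := by
    simpa using hnp q₀ hq1 hqT
  -- a further class is the complement of `q₀` at a jump
  have hother : ∀ q : S.Cl, q ≠ S.cls 1 → q ≠ S.cls (r x0) → q ≠ q₀ →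
      (q = S.cls (sr i₁) ∨ q = S.cls (sr (i₁ + x0))) ∧
        S.mu p φ (delta S q) = - S.mu p φ φ := by
    intro q h1 hT hne
    obtain ⟨a0, a1, -⟩ := hex q h1 hT
    have hψ : S.RatF (delta S q) := ratF_delta S q
    have e := Sys.shift_eq hm hg hφ hψ b1 a1 i₁
    have hne0 : (S.mu p φ (delta S q) : ℂ) ≠ 0 := by
      intro h0
      refine hnp q h1 hT fun i => ?_
      have := Sys.shift_eq hm hg hφ hψ b1 a1 i
      rw [h0, zero_mul, mul_eq_zero, sub_eq_zero] at this
      exact_mod_cast this.resolve_left (by exact_mod_cast hμ)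
    have hφ1 : ((φ (sr (i₁ + x0)) : ℂ) - φ (sr i₁)) ≠ 0 := sub_ne_zero.mpr (by exact_mod_cast hi₁)
    have hr : ((delta S q (sr (i₁ + x0)) : ℂ) - delta S q (sr i₁)) ≠ 0 := by
      intro h0; rw [h0, mul_zero] at e; exact mul_ne_zero hne0 hφ1 e.symm
    have hqne : ∀ z, S.cls z = q → φ z = 0 := fun z hz => if_neg (by rw [hz]; exact hne)
    have hqne' : ∀ z, φ z ≠ 0 → φ z = 1 ∧ delta S q z = 0 := fun z hz => by
      have hzq : S.cls z = q₀ := by
        by_contra h; exact hz (if_neg h)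
      exact ⟨if_pos hzq, if_neg (by rw [hzq]; exact Ne.symm hne)⟩
    by_cases hz : S.cls (sr i₁) = q
    · refine ⟨Or.inl hz.symm, ?_⟩
      have d1 : delta S q (sr i₁) = 1 := if_pos hz
      have f1 : φ (sr i₁) = 0 := hqne _ hz
      obtain ⟨f2, d2⟩ := hqne' (sr (i₁ + x0)) (by rw [f1] at hi₁; exact hi₁)
      rw [d1, f1, f2, d2] at e
      simp only [Int.cast_one, Int.cast_zero, sub_zero, zero_sub, mul_one, mul_neg] at e
      exact_mod_cast e.symm
    · have d1 : delta S q (sr i₁) = 0 := if_neg hz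
      have hz2 : S.cls (sr (i₁ + x0)) = q := by
        by_contra h
        exact hr (by rw [d1, show delta S q (sr (i₁ + x0)) = 0 from if_neg h, sub_self])
      refine ⟨Or.inr hz2.symm, ?_⟩
      have d2 : delta S q (sr (i₁ + x0)) = 1 := if_pos hz2
      have f2 : φ (sr (i₁ + x0)) = 0 := hqne _ hz2
      obtain ⟨f1, -⟩ := hqne' (sr i₁) (by rw [f2] at hi₁; exact hi₁.symm)
      rw [d1, f1, f2, d2] at e
      simp only [Int.cast_one, Int.cast_zero, sub_zero, zero_sub, mul_one, mul_neg] at e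
      rw [eq_neg_iff_add_eq_zero, add_comm, ← eq_neg_iff_add_eq_zero]
      exact_mod_cast e
  have honly : ∀ q : S.Cl, q ≠ S.cls 1 → q ≠ S.cls (r x0) → q = q₀ := by
    intro q h1 hT
    by_contra hne
    obtain ⟨hloc, hmu⟩ := hother q h1 hT hne
    obtain ⟨a0, a1, z, hz⟩ := hex q h1 hT
    set ψ : DihedralGroup m → ℤ := fun z => φ z + delta S q z
    have hψ : S.RatF ψ := S.ratF_cls fun q' => (if q' = q₀ then 1 else 0) + (if q' = q then 1 else 0)
    have hper : ∀ i, ψ (sr (i + x0)) = ψ (sr i) := by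
      intro i
      have e := Sys.shift_eq hm hg hφ (ratF_delta S q) b1 a1 i
      rw [hmu, Int.cast_neg, neg_mul, ← mul_neg] at e
      have e' := mul_left_cancel₀ (Int.cast_ne_zero.mpr hμ) e
      have : ((ψ (sr (i + x0)) : ℤ) : ℂ) = ((ψ (sr i) : ℤ) : ℂ) := by
        simp only [ψ, Int.cast_add]
        linear_combination e'
      exact_mod_cast this
    have h2 := Sys.not_periodic hm hg hψ (show ψ (r x0) = ψ 1 by simp only [ψ, b1, a1]) hper z
    have h3 : φ z = 0 := by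
      refine if_neg fun h => hne ?_
      have : S.cls z = q := by
        by_contra h'; rw [show delta S q z = 0 from if_neg h'] at hz; exact zero_ne_one hz
      rw [← this, h]
    simp only [ψ, h3, hz, b0, a0] at h2
    omega
  -- the square
  set Z := fmul φ φ
  have hZ : S.RatF Z := hφ.mul hm hφ
  obtain ⟨z₀, hz₀⟩ := Quotient.mk_surjective q₀
  set c := Z (r x0)
  set d := Z z₀
  have hform : ∀ z, Z z = c + (if z = 1 then S.mu p φ φ else 0) + (d - c) * φ z := by
    intro z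
    by_cases hz1 : z = 1
    · subst hz1
      rw [if_pos rfl, b0, mul_zero, add_zero]
      simp only [Sys.mu, c, Z, x0]
      ring
    rw [if_neg hz1, add_zero]
    by_cases hzT : S.cls z = S.cls (r x0)
    · rw [hZ.apply_eq S hzT, show φ z = 0 from if_neg (by rw [hzT]; exact Ne.symm hqT), mul_zero, add_zero]
    · have hzq := honly _ (fun h => hz1 ((S.cls_eq_one_iff).mp h)) hzT
      rw [hZ.apply_eq S (hzq.trans hz₀.symm), show φ z = 1 from if_pos hzq, mul_one]
      ring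
  obtain ⟨s, hs⟩ : ∃ s : ZMod m, s * x0 ≠ 0 := ⟨1, by rw [one_mul]; exact xz_ne_zero hg.1 hg.2.1⟩
  obtain ⟨e0, e1⟩ := Sys.mu_spec hm hg hφ hφ b1 b1 hs
  have hb : bT Z s = 0 := by
    rw [show Z = fmul φ φ from rfl, bT_fmul S hφ.1, e0, zero_mul, mul_zero, add_zero]
  have hb' : bT Z s = ((d - c : ℤ) : ℂ) * bT φ s := by
    have hsne : s ≠ 0 := fun h => hs (by rw [h, zero_mul])
    simp only [bT, hat, hform, one_def, reduceCtorEq, if_false, add_zero, Int.cast_add, Int.cast_mul, add_mul,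
      Finset.sum_add_distrib, Finset.mul_sum, mul_assoc]
    rw [← Finset.mul_sum]
    have : ∑ i, chr s i = 0 := by
      have h := sum_chr (m := m) s
      rw [if_neg hsne] at h
      rw [← h]
      exact Finset.sum_congr rfl fun i _ => by rw [chr, chr, mul_comm]
    rw [this, mul_zero, zero_add]
  have hbne : bT φ s ≠ 0 := fun h => by
    rw [h, zero_mul] at e1
    exact hμ (by exact_mod_cast e1.symm)
  rw [hb] at hb'
  have hdc : d - c = 0 := by exact_mod_cast (mul_eq_zero.mp hb'.symm).resolve_right hbne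
  exact ⟨S.mu p φ φ, c, hμ, fun z => by rw [hform, hdc, zero_mul, add_zero]⟩

end CfsgLib.FGS.DihedralBGroup
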