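import Cfsg.Agent.Lib.FGS.DihedralBGroup.Classes
import Cfsg.Agent.Lib.FGS.DihedralBGroup.Arith

/-!
# Dihedral groups are B-groups

There is no class outside the two exceptional ones, so the stabiliser is transitive.
-/

set_option autoImplicit false

noncomputable section

namespace CfsgLib.FGS.DihedralBGroup

open DihedralGroup
open scoped ComplexConjugate

variable {m : ℕ} [NeZero m]

theorem sum_chr_right (s : ZMod m) : ∑ i, chr s i = if s = 0 then (m : ℂ) else 0 := by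
  rw [← sum_chr s]
  exact Finset.sum_congr rfl fun i _ => by rw [chr, chr, mul_comm]

theorem card_mul_xz_le {p : ℕ} (hp : p.Prime) (hpm : p ∣ m) :
    p * ((Finset.univ.filter fun s : ZMod m => s ≠ 0 ∧ s * xz m p = 0).card + 1) ≤ m := by
  classical
  have hz : ∀ s : ZMod m, s * xz m p = 0 → p ∣ s.val := by
    intro s hs
    have hk : 0 < m / p := Nat.div_pos (Nat.le_of_dvd (Nat.pos_of_ne_zero (NeZero.ne m)) hpm) hp.pos
    rw [← ZMod.natCast_zmod_val s, xz, ← Nat.cast_mul, ZMod.natCast_eq_zero_iff] at hs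
    conv_lhs at hs => rw [← Nat.mul_div_cancel' hpm]
    exact Nat.dvd_of_mul_dvd_mul_right hk hs
  have h : (Finset.univ.filter fun s : ZMod m => s ≠ 0 ∧ s * xz m p = 0).card ≤
      ((Finset.range (m / p)).erase 0).card := by
    refine Finset.card_le_card_of_injOn (fun s => s.val / p) ?_ ?_
    · intro s hs
      rw [Finset.mem_coe, Finset.mem_filter] at hs
      rw [Finset.mem_coe, Finset.mem_erase, Finset.mem_range]
      obtain ⟨t, ht⟩ := hz s hs.2.2
      dsimp only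
      refine ⟨fun h0 => hs.2.1 ?_, Nat.div_lt_div_of_lt_of_dvd hpm (ZMod.val_lt s)⟩
      rw [← ZMod.val_eq_zero, ← Nat.mul_div_cancel' (hz s hs.2.2), h0, mul_zero]
    · intro s hs s' hs' h
      rw [Finset.mem_coe, Finset.mem_filter] at hs hs'
      exact ZMod.val_injective m (by
        rw [← Nat.mul_div_cancel' (hz s hs.2.2), ← Nat.mul_div_cancel' (hz s' hs'.2.2)]
        exact congrArg (p * ·) h)
  have hk : 0 < m / p := Nat.div_pos (Nat.le_of_dvd (Nat.pos_of_ne_zero (NeZero.ne m)) hpm) hp.pos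
  rw [Finset.card_erase_of_mem (Finset.mem_range.mpr hk), Finset.card_range] at h
  refine le_trans (Nat.mul_le_mul_left p (Nat.add_le_add_right h 1)) ?_
  rw [Nat.sub_add_cancel hk, Nat.mul_div_cancel' hpm]

theorem aC_zero_eq (φ : DihedralGroup m → ℤ) : aC φ 0 = ((∑ i, φ (r i) : ℤ) : ℂ) := by
  simp [aC, hat, chr_zero_left]

theorem bT_zero_eq (φ : DihedralGroup m → ℤ) : bT φ 0 = ((∑ i, φ (sr i) : ℤ) : ℂ) := by
  simp [bT, hat, chr_zero_left]

variable (S : Sys m)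

/-- The data of a design class. -/
theorem Sys.design_facts (hm : 2 ≤ m) {p : ℕ} (hg : Good m p) {q₀ : S.Cl} (hq1 : q₀ ≠ S.cls 1)
    (hqT : q₀ ≠ S.cls (r (xz m p))) :
    ∃ α β δ N c : ℤ, δ ≠ 0 ∧ δ = α - β ∧ 1 ≤ α ∧ α + 2 ≤ (m : ℤ) ∧ 1 ≤ β ∧ 2 * δ ^ 2 ≤ (m : ℤ) ∧ 0 ≤ N ∧
      (p : ℤ) * (N + 1) ≤ m ∧ α * (m - α) = δ ^ 2 * N ∧
      (α + β - m) ^ 2 = (m : ℤ) ^ 2 - 2 * m * δ ^ 2 + δ ^ 2 ∧
      (∑ i, delta S q₀ (sr i)) = β ∧
      N = (Finset.univ.filter fun s : ZMod m => s ≠ 0 ∧ aC (delta S q₀) s ≠ 0).card ∧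
      (∀ s, s ≠ 0 → aC (delta S q₀) s = 0 ∨ (aC (delta S q₀) s ^ 2 = (δ : ℂ) ^ 2 ∧ bT (delta S q₀) s = 0)) ∧
      (∀ s, s * xz m p ≠ 0 → aC (delta S q₀) s = 0 ∧ bT (delta S q₀) s * conj (bT (delta S q₀) s) = (δ : ℂ) ^ 2) ∧
      ∀ z, fmul (delta S q₀) (delta S q₀) z = c + if z = 1 then δ ^ 2 else 0 := by
  classical
  obtain ⟨E, c, hE, hdes⟩ := S.exists_design hm hg hq1 hqT
  set φ := delta S q₀ with hφd
  set x0 := xz m p with hx0
  have hx00 : x0 ≠ 0 := xz_ne_zero hg.1 hg.2.1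
  have hφ : S.RatF φ := ratF_delta S q₀
  have h01 : ∀ z, φ z = 0 ∨ φ z = 1 := fun z => by
    simp only [φ, delta]; split <;> simp
  have hb0 : φ 1 = 0 := if_neg (Ne.symm hq1)
  have hbx : φ (r x0) = 0 := if_neg (Ne.symm hqT)
  have hb1 : φ (r x0) = φ 1 := hbx.trans hb0.symm
  have hsym : ∀ z, φ z⁻¹ = φ z := hφ.1.symm
  have hneg : ∀ i, φ (r (-i)) = φ (r i) := fun i => by rw [← inv_r, hsym]
  set α := ∑ i, φ (r i) with hα
  set β := ∑ i, φ (sr i) with hβ
  have hsq : ∀ z, φ z * φ z = φ z := fun z => by rcases h01 z with h | h <;> rw [h] <;> rfl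
  have hk : c + E = α + β := by
    have := hdes 1
    rw [if_pos rfl] at this
    rw [← this, fmul, one_def, coeff_mul_r]
    simp only [coeff_ofFun, zero_sub, hneg, zero_add, hsq]
    rfl
  have hper : ∀ i, φ (r (x0 - i)) = φ (r i) := fun i => by
    rw [sub_eq_add_neg, add_comm, S.periodic hm hg hφ hb1, hneg]
  set γ := ∑ i, φ (sr i) * φ (sr (x0 + i)) with hγ
  have hc : c = α + γ := by
    have := hdes (r x0)
    rw [if_neg (by rw [one_def, r.injEq]; exact hx00), add_zero] at this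
    rw [← this, fmul, coeff_mul_r]
    simp only [coeff_ofFun, hper, hsq]
    rfl
  have hshift : ∑ i, φ (sr (x0 + i)) = β := Fintype.sum_equiv (Equiv.addLeft x0) _ _ fun i => rfl
  have hγ0 : 0 ≤ γ := Finset.sum_nonneg fun i _ => by
    rcases h01 (sr i) with h | h <;> rcases h01 (sr (x0 + i)) with h' | h' <;> rw [h, h'] <;> norm_num
  have hγ1 : 2 * β - m ≤ γ := by
    have : ∑ i, (φ (sr i) + φ (sr (x0 + i)) - 1) ≤ γ := Finset.sum_le_sum fun i _ => by
      rcases h01 (sr i) with h | h <;> rcases h01 (sr (x0 + i)) with h' | h' <;> rw [h, h'] <;> norm_num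
    rw [Finset.sum_sub_distrib, Finset.sum_add_distrib, hshift, Finset.sum_const, Finset.card_univ, ZMod.card,
      nsmul_eq_mul, mul_one, ← hβ] at this
    omega
  obtain ⟨z₀, hz₀⟩ := Quotient.mk_surjective q₀
  have hz01 : z₀ ≠ 1 := fun h => hq1 (by rw [← hz₀, h]; rfl)
  have hmem : ∀ γ' ∈ S.Γ, φ (γ' z₀) = 1 := fun γ' hγ' => by
    rw [hφ.1 γ' hγ']; exact if_pos hz₀
  have hα1 : 1 ≤ α := by
    obtain ⟨γ', hγ', i, -, hi⟩ := S.exists_r hm z₀ hz01
    have h1 := hmem γ' hγ'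
    rw [hi] at h1
    rw [← h1]
    exact Finset.single_le_sum (f := fun i => φ (r i))
      (fun j _ => by rcases h01 (r j) with h | h <;> rw [h]; norm_num) (Finset.mem_univ i)
  have hβ1 : 1 ≤ β := by
    obtain ⟨γ', hγ', i, hi⟩ := S.exists_sr z₀ hz01
    have h1 := hmem γ' hγ'
    rw [hi] at h1
    rw [← h1]
    exact Finset.single_le_sum (f := fun i => φ (sr i))
      (fun j _ => by rcases h01 (sr j) with h | h <;> rw [h]; norm_num) (Finset.mem_univ i)
  have hα2 : α + 2 ≤ (m : ℤ) := by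
    have h1 : ∑ i, (φ (r i) + if i = 0 ∨ i = x0 then 1 else 0) ≤ ∑ _i : ZMod m, (1 : ℤ) := by
      refine Finset.sum_le_sum fun i _ => ?_
      split
      · rename_i hi
        rcases hi with rfl | rfl
        · rw [← one_def, hb0]; norm_num
        · rw [hbx]; norm_num
      · rcases h01 (r i) with h | h <;> rw [h] <;> norm_num
    rw [Finset.sum_add_distrib, ← hα, Finset.sum_boole, Finset.sum_const, Finset.card_univ, ZMod.card,
      nsmul_eq_mul, mul_one] at h1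
    have : (Finset.univ.filter fun i : ZMod m => i = 0 ∨ i = x0).card = 2 := by
      rw [show (Finset.univ.filter fun i : ZMod m => i = 0 ∨ i = x0) = {0, x0} by ext; simp]
      exact Finset.card_pair (Ne.symm hx00)
    rw [this, Nat.cast_ofNat] at h1
    omega
  -- the trivial character
  have hbZ : ∀ s, bT (fmul φ φ) s = if s = 0 then (c : ℂ) * m else 0 := fun s => by
    simp only [bT, hat, hdes, one_def, reduceCtorEq, if_false, add_zero, ← Finset.mul_sum, sum_chr_right,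
      mul_ite, mul_zero]
  have haZ : ∀ s, aC (fmul φ φ) s = (if s = 0 then (c : ℂ) * m else 0) + E := fun s => by
    simp only [aC, hat, hdes, one_def, r.injEq, Int.cast_add, add_mul, Finset.sum_add_distrib, ← Finset.mul_sum,
      sum_chr_right, mul_ite, mul_zero, apply_ite (Int.cast : ℤ → ℂ), Int.cast_zero, ite_mul, zero_mul,
      Finset.sum_ite_eq', Finset.mem_univ, if_true, chr_zero, mul_one]
  have hb := fun s => (bT_fmul S (φ := φ) (ψ := φ) hφ.1 s).symm.trans (hbZ s)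
  have ha := fun s => (aC_fmul (φ := φ) (ψ := φ) s).symm.trans (haZ s)
  have e1 : α * β + β * α = c * m := by
    have := hb 0
    rw [if_pos rfl, aC_zero_eq, bT_zero_eq] at this
    exact_mod_cast this
  have e2 : α * α + β * β = c * m + E := by
    have := ha 0
    rw [if_pos rfl, aC_zero_eq, bT_zero_eq, map_intCast] at this
    exact_mod_cast this
  have hEδ : E = (α - β) ^ 2 := by linear_combination e1 - e2
  have hδ0 : α - β ≠ 0 := fun h => hE (by rw [hEδ, h]; ring)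
  have hEc : (E : ℂ) = ((α - β : ℤ) : ℂ) ^ 2 := by rw [hEδ]; push_cast; rfl
  have hs : ∀ s, s ≠ 0 → aC φ s = 0 ∨ (aC φ s ^ 2 = ((α - β : ℤ) : ℂ) ^ 2 ∧ bT φ s = 0) := by
    intro s hs0
    by_cases h : aC φ s = 0
    · exact Or.inl h
    refine Or.inr ?_
    have h1 := hb s
    rw [if_neg hs0] at h1
    have h2 : bT φ s = 0 := by
      rcases mul_eq_zero.mp (show aC φ s * (2 * bT φ s) = 0 by linear_combination h1) with h' | h'
      · exact absurd h' h
      · exact (mul_eq_zero.mp h').resolve_left two_ne_zero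
    have h3 := ha s
    rw [if_neg hs0, h2, zero_mul, add_zero, zero_add] at h3
    exact ⟨by rw [sq, h3, hEc], h2⟩
  have hs' : ∀ s, s * x0 ≠ 0 → aC φ s = 0 ∧ bT φ s * conj (bT φ s) = ((α - β : ℤ) : ℂ) ^ 2 := by
    intro s hsx
    have h0 := (Sys.mu_spec hm hg hφ hφ hb1 hb1 hsx).1
    have h3 := ha s
    rw [if_neg (fun h => hsx (by rw [h, zero_mul])), h0, mul_zero, zero_add, zero_add] at h3
    exact ⟨h0, by rw [h3, hEc]⟩
  set A := Finset.univ.filter fun s : ZMod m => s ≠ 0 ∧ aC φ s ≠ 0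
  have hN : (p : ℤ) * ((A.card : ℤ) + 1) ≤ m := by
    have h1 : A.card ≤ (Finset.univ.filter fun s : ZMod m => s ≠ 0 ∧ s * xz m p = 0).card := by
      refine Finset.card_le_card fun s hs1 => ?_
      rw [Finset.mem_filter] at hs1 ⊢
      exact ⟨hs1.1, hs1.2.1, by by_contra h; exact hs1.2.2 (hs' s h).1⟩
    have h2 := card_mul_xz_le hg.1 hg.2.1
    exact_mod_cast le_trans (Nat.mul_le_mul_left p (Nat.add_le_add_right h1 1)) h2
  have hpar : ∑ s, aC φ s ^ 2 = (m : ℂ) * (α : ℂ) := by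
    have : ∀ s, aC φ s ^ 2 = ∑ i, (φ (r i) : ℂ) * (aC φ s * chr s i) := fun s => by
      rw [sq, show aC φ s * aC φ s = aC φ s * hat (fun i => (φ (r i) : ℂ)) s from rfl, hat, Finset.mul_sum]
      exact Finset.sum_congr rfl fun i _ => by ring
    simp only [this]
    rw [Finset.sum_comm, hα, Int.cast_sum, Finset.mul_sum]
    refine Finset.sum_congr rfl fun i _ => ?_
    rw [← Finset.mul_sum]
    have h := hat_inv (fun i => (φ (r i) : ℂ)) (-i)
    simp only [neg_neg, hneg] at h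
    rw [show (∑ s, aC φ s * chr s i) = m * (φ (r i) : ℂ) from h, mul_left_comm, ← Int.cast_mul, hsq]
  have hsumA : ∑ s ∈ A, aC φ s ^ 2 = (A.card : ℂ) * ((α - β : ℤ) : ℂ) ^ 2 := by
    rw [← nsmul_eq_mul, ← Finset.sum_const]
    refine Finset.sum_congr rfl fun s hs1 => ?_
    rw [Finset.mem_filter] at hs1
    exact ((hs s hs1.2.1).resolve_left hs1.2.2).1
  have hN' : α * (m - α) = (α - β) ^ 2 * A.card := by
    rw [← Finset.add_sum_erase _ _ (Finset.mem_univ (0 : ZMod m)),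
      ← Finset.sum_filter_of_ne (p := fun s => aC φ s ≠ 0) (s := Finset.univ.erase 0)
        (fun s _ h h' => h (by rw [h', zero_pow two_ne_zero])),
      show (Finset.univ.erase (0 : ZMod m)).filter (fun s => aC φ s ≠ 0) = A by ext; simp [A, and_comm],
      hsumA, aC_zero_eq, ← hα] at hpar
    have hpar' : α ^ 2 + (A.card : ℤ) * (α - β) ^ 2 = m * α := by exact_mod_cast hpar
    linear_combination -hpar'
  have hEm : 2 * E ≤ m := by
    have : E = β - γ := by omega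
    omega
  refine ⟨α, β, α - β, A.card, c, hδ0, rfl, hα1, hα2, hβ1, hEδ ▸ hEm, Int.natCast_nonneg _, hN, hN', ?_,
    rfl, rfl, hs, hs', fun z => hEδ ▸ hdes z⟩
  linear_combination (1 - 2 * (m : ℤ)) * hEδ + e2 + e1 + (2 * (m : ℤ)) * hk

theorem Sys.prime_dvd_diff (hm : 2 ≤ m) {p : ℕ} (hg : Good m p) (hp2 : p ≠ 2) {q₀ : S.Cl}
    (hq1 : q₀ ≠ S.cls 1) (hqT : q₀ ≠ S.cls (r (xz m p))) {δ c : ℤ}
    (hdes : ∀ z, fmul (delta S q₀) (delta S q₀) z = c + if z = 1 then δ ^ 2 else 0) : (p : ℤ) ∣ δ := by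
  classical
  have := Fact.mk hg.1
  set φ := delta S q₀
  set X := ofFun φ
  have key : ∀ j, ∃ C : ℤ, ∀ z, (X ^ (2 * j + 1)).coeff z = (δ ^ 2) ^ j * φ z + C := by
    intro j
    induction j with
    | zero => exact ⟨0, fun z => by rw [mul_zero, zero_add, pow_one, pow_zero, one_mul, add_zero, coeff_ofFun]⟩
    | succ j ih =>
      obtain ⟨C, hC⟩ := ih
      refine ⟨c * (∑ z, ((δ ^ 2) ^ j * φ z + C)) + δ ^ 2 * C, fun z => ?_⟩
      rw [show 2 * (j + 1) + 1 = (2 * j + 1) + 2 by ring, pow_add, pow_two, coeff_mul_apply]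
      have h2 : ∀ w, (X * X).coeff w = c + if w = 1 then δ ^ 2 else 0 := hdes
      simp only [hC, h2, mul_add, Finset.sum_add_distrib, mul_ite, mul_zero, inv_mul_eq_one,
        Finset.sum_ite_eq', Finset.mem_univ, if_true, ← Finset.sum_mul]
      ring
  obtain ⟨j, hj⟩ := hg.1.odd_of_ne_two hp2
  obtain ⟨C, hC⟩ := key j
  rw [← hj] at hC
  have hφ : S.RatF φ := ratF_delta S q₀
  have hz := fun {w : ZMod m} (hw : w ≠ 0) => (S.fibre_sum_eq_zero hm hp2 hg.2.1 hφ hw).1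
  have h1 := hz (xz_ne_zero hg.1 hg.2.1)
  rw [hC, show φ (r (xz m p)) = 0 from if_neg (Ne.symm hqT), mul_zero, zero_add] at h1
  obtain ⟨z₀, hz₀⟩ := Quotient.mk_surjective q₀
  obtain ⟨γ', hγ', i, hi0, hi⟩ := S.exists_r hm z₀ (fun h => hq1 (by rw [← hz₀, h]; rfl))
  have h2 := hz hi0
  rw [hC, ← hi, hφ.1 γ' hγ', show φ z₀ = 1 from if_pos hz₀, mul_one, Int.cast_add, h1, add_zero,
    ZMod.intCast_zmod_eq_zero_iff_dvd] at h2
  exact (Nat.prime_iff_prime_int.mp hg.1).dvd_of_dvd_pow ((Nat.prime_iff_prime_int.mp hg.1).dvd_of_dvd_pow h2)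

theorem Sys.diff_dvd (hm : 2 ≤ m) {q₀ : S.Cl} (hq1 : q₀ ≠ S.cls 1) {δ : ℤ} (hδ : δ ≠ 0)
    (hs : ∀ s, s ≠ 0 → aC (delta S q₀) s = 0 ∨
      (aC (delta S q₀) s ^ 2 = (δ : ℂ) ^ 2 ∧ bT (delta S q₀) s = 0)) : δ ∣ (m : ℤ) := by
  classical
  set φ := delta S q₀
  obtain ⟨z₀, hz₀⟩ := Quotient.mk_surjective q₀
  obtain ⟨γ', hγ', i, -, hi⟩ := S.exists_r hm z₀ (fun h => hq1 (by rw [← hz₀, h]; rfl))
  have hφ : S.RatF φ := ratF_delta S q₀
  have h1 : φ (r i) = 1 := by rw [← hi, hφ.1 γ' hγ']; exact if_pos hz₀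
  have h0 : φ (r 0) = 0 := by rw [← one_def]; exact if_neg (Ne.symm hq1)
  have e1 := hat_inv (fun i => (φ (r i) : ℂ)) i
  have e0 := hat_inv (fun i => (φ (r i) : ℂ)) 0
  simp only [neg_zero, chr_zero, mul_one] at e0
  rw [h0, Int.cast_zero, mul_zero] at e0
  rw [h1, Int.cast_one, mul_one] at e1
  have he : ∀ s, ∃ w, IsIntegral ℤ w ∧ aC φ s * (chr s (-i) - 1) = (δ : ℂ) * w := by
    intro s
    by_cases hs0 : s = 0
    · exact ⟨0, isIntegral_zero, by rw [hs0, chr_zero_left, sub_self, mul_zero, mul_zero]⟩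
    rcases hs s hs0 with h | ⟨h, -⟩
    · exact ⟨0, isIntegral_zero, by rw [h, zero_mul, mul_zero]⟩
    rcases sq_eq_sq_iff_eq_or_eq_neg.mp h with h' | h'
    · exact ⟨_, (isIntegral_chr s (-i)).sub isIntegral_one, by rw [h']⟩
    · exact ⟨-(chr s (-i) - 1), ((isIntegral_chr s (-i)).sub isIntegral_one).neg, by rw [h']; ring⟩
  choose w hw hw' using he
  refine int_dvd_of_integral hδ (w := ∑ s, w s) (IsIntegral.sum w fun s _ => hw s) ?_
  rw [Finset.mul_sum, Finset.sum_congr rfl fun s _ => (hw' s).symm]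
  simp only [mul_sub, mul_one, Finset.sum_sub_distrib]
  rw [Int.cast_natCast, show ∑ s, aC φ s * chr s (-i) = (m : ℂ) from e1, show ∑ s, aC φ s = 0 from e0, sub_zero]

theorem sum_zmod_range {A : Type*} [AddCommMonoid A] (F : ZMod m → A) :
    ∑ i, F i = ∑ n ∈ Finset.range m, F (n : ZMod m) := by
  classical
  refine (Finset.sum_bij (s := Finset.range m) (t := Finset.univ) (f := fun n : ℕ => F (n : ZMod m)) (g := F)
    (fun n _ => (n : ZMod m)) ?_ ?_ ?_ ?_).symm
  · intro n _; exact Finset.mem_univ _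
  · intro a ha b hb h
    rw [ZMod.natCast_eq_natCast_iff'] at h
    rwa [Nat.mod_eq_of_lt (Finset.mem_range.mp ha), Nat.mod_eq_of_lt (Finset.mem_range.mp hb)] at h
  · intro i _; exact ⟨i.val, Finset.mem_range.mpr (ZMod.val_lt i), ZMod.natCast_zmod_val i⟩
  · intro n _; rfl

/-- No `0,1` function on `ZMod (2 L)` with complementary halves has `|hat 1|² = L = 4^l`. -/
theorem no_antiperiodic {L l : ℕ} (hl : 1 ≤ l) (hL : L = 4 ^ l) (hmL : m = 2 * L) {g : ZMod m → ℤ}
    (hg : ∀ i, g i + g (i + (L : ZMod m)) = 1)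
    (hE : hat (fun i => (g i : ℂ)) 1 * conj (hat (fun i => (g i : ℂ)) 1) = (L : ℂ)) : False := by
  classical
  have hLpos : 0 < L := by rw [hL]; exact pow_pos (by norm_num) l
  set ζ := chr (1 : ZMod m) 1
  have hζn : ∀ n : ℕ, chr (1 : ZMod m) (n : ZMod m) = ζ ^ n := fun n => by
    rw [chr_pow, chr, chr, one_mul, mul_one, mul_one]
  have hζL : ζ ^ L = -1 := by
    have h2 : ζ ^ L * ζ ^ L = 1 := by
      rw [← pow_add, ← two_mul, ← hmL, ← hζn, ZMod.natCast_self, chr_zero]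
    refine (mul_self_eq_one_iff.mp h2).resolve_left fun h => ?_
    rw [← hζn, chr_eq_one_iff, one_mul, ZMod.natCast_eq_zero_iff] at h
    exact absurd (Nat.le_of_dvd hLpos h) (by omega)
  set G := ∑ n ∈ Finset.range L, (g (n : ZMod m) : ℂ) * ζ ^ n
  set T := ∑ n ∈ Finset.range L, ζ ^ n
  have hb : hat (fun i => (g i : ℂ)) 1 = 2 * G - T := by
    rw [hat, sum_zmod_range, Finset.range_eq_Ico,
      ← Finset.sum_Ico_consecutive _ (Nat.zero_le L) (show L ≤ m by omega), Finset.sum_Ico_eq_sum_range _ L m,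
      show m - L = L by omega, ← Finset.range_eq_Ico, Finset.mul_sum, ← Finset.sum_sub_distrib,
      ← Finset.sum_add_distrib]
    refine Finset.sum_congr rfl fun n _ => ?_
    have hgn : (g ((L + n : ℕ) : ZMod m) : ℂ) = 1 - (g (n : ZMod m) : ℂ) := by
      rw [Nat.cast_add, add_comm]
      have := hg (n : ZMod m)
      rw [eq_sub_iff_add_eq, add_comm]
      exact_mod_cast this
    rw [hgn, hζn, hζn, pow_add, hζL]
    ring
  have hT : (1 - ζ) * T = 2 := by
    rw [mul_comm, geom_sum_mul_neg, hζL]; norm_num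
  set A := 1 - ζ
  set w := A * G - 1
  have hAb : A * hat (fun i => (g i : ℂ)) 1 = 2 * w := by
    rw [hb, mul_sub, hT]; ring
  have hcc : conj ζ * ζ = 1 := by
    rw [conj_chr, ← chr_add, neg_add_cancel, chr_zero]
  have hL4 : (L : ℂ) = 4 * ((4 ^ (l - 1) : ℕ) : ℂ) := by
    rw [hL]
    push_cast
    rw [← pow_succ', Nat.sub_add_cancel hl]
  set K : ℂ := ((4 ^ (l - 1) : ℕ) : ℂ)
  have hkey : A * conj A * K = w * conj w := by
    have h := congrArg (fun z => z * conj z) hAb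
    simp only [map_mul, map_ofNat] at h
    refine mul_left_cancel₀ (show (4 : ℂ) ≠ 0 by norm_num) ?_
    rw [hL4] at hE
    linear_combination h - A * conj A * hE
  have hconjA : conj A = -(conj ζ) * A := by
    simp only [A, map_sub, map_one]
    linear_combination -hcc
  have hζi : IsIntegral ℤ ζ := isIntegral_chr _ _
  have hζci : IsIntegral ℤ (conj ζ) := by rw [conj_chr]; exact isIntegral_chr _ _
  have hGi : IsIntegral ℤ G :=
    IsIntegral.sum _ fun n _ => (isIntegral_algebraMap (R := ℤ) (x := g n)).mul (hζi.pow n)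
  have hGci : IsIntegral ℤ (conj G) := by
    rw [map_sum]
    refine IsIntegral.sum _ fun n _ => ?_
    rw [map_mul, map_intCast, map_pow]
    exact (isIntegral_algebraMap (R := ℤ) (x := g n)).mul (hζci.pow n)
  have hAi : IsIntegral ℤ A := isIntegral_one.sub hζi
  have hAci : IsIntegral ℤ (conj A) := by rw [hconjA]; exact hζci.neg.mul hAi
  have hKi : IsIntegral ℤ K := by
    simpa [K] using isIntegral_algebraMap (R := ℤ) (A := ℂ) (x := ((4 ^ (l - 1) : ℕ) : ℤ))
  refine no_unit_one_sub (u := conj A * K + G - conj ζ * conj G - G * conj A * conj G) (n := 2 * l + 1) hζi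
    ((((hAci.mul hKi).add hGi).sub (hζci.mul hGci)).sub ((hGi.mul hAci).mul hGci)) ?_ ?_
  · rw [show 2 ^ (2 * l + 1) = L * 2 by rw [hL, pow_succ, pow_mul]; norm_num, pow_mul, hζL]; norm_num
  · simp only [w, map_sub, map_mul, map_one] at hkey
    rw [hconjA] at hkey ⊢
    linear_combination -hkey

theorem Sys.no_third_class (hm : 2 ≤ m) {p : ℕ} (hg : Good m p) (q₀ : S.Cl) :
    q₀ = S.cls 1 ∨ q₀ = S.cls (r (xz m p)) := by
  classical
  by_contra hcon
  push Not at hcon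
  obtain ⟨hq1, hqT⟩ := hcon
  obtain ⟨α, β, δ, N, c, hδ0, hδ, hα1, hα2, hβ1, hEm, hN0, hN, hpar, hy, hβd, hNA, hs, hs', hdes⟩ :=
    S.design_facts hm hg hq1 hqT
  by_cases hp2 : p ≠ 2
  · have hp3 : (3 : ℤ) ≤ p := by have := hg.1.two_le; omega
    exact odd_contra hp3 (S.prime_dvd_diff hm hg hp2 hq1 hqT hdes) hδ0 hδ hEm hN hN0 hpar hy
  push Not at hp2
  subst hp2
  obtain ⟨a, ha⟩ := hg.2.2 rfl
  have hmZ : (m : ℤ) = 2 ^ a := by exact_mod_cast ha
  have hd := Int.natAbs_dvd_natAbs.mpr (S.diff_dvd hm hq1 hδ0 hs)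
  rw [Int.natAbs_natCast, ha] at hd
  obtain ⟨l, -, hl⟩ := (Nat.dvd_prime_pow Nat.prime_two).mp hd
  have hE : δ ^ 2 = ((2 : ℤ) ^ l) ^ 2 := by
    rw [← Int.natAbs_sq δ, hl]; push_cast; rfl
  have hl1 : 1 ≤ l := by
    by_contra h
    rw [show l = 0 by omega, pow_zero, one_pow] at hE
    rw [hE] at hy
    have hy' : (α + β - m) ^ 2 = ((m : ℤ) - 1) ^ 2 := by rw [hy]; ring
    rw [hδ, sq_eq_one_iff] at hE
    rcases sq_eq_sq_iff_eq_or_eq_neg.mp hy' with h' | h' <;> omega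
  have hla : 2 * l + 1 ≤ a := by
    have : (2 : ℤ) ^ (2 * l + 1) ≤ 2 ^ a := by rw [← hmZ, pow_succ', mul_comm 2 l, pow_mul, ← hE]; exact hEm
    exact (pow_le_pow_iff_right₀ (by norm_num)).mp this
  have hal := two_pow_sq hl1 hla (y := α + β - m) (by rw [hy, hE, hmZ])
  have hm2 : (m : ℤ) = 2 * δ ^ 2 := by rw [hmZ, hal, hE, pow_succ', mul_comm 2 l, pow_mul]
  have hy2 : (α + β - m) ^ 2 = δ ^ 2 := by rw [hy, hm2]; ring
  rw [hm2] at hN hpar
  rw [hm2] at hy2
  have hE0 : 0 < δ ^ 2 := by positivity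
  obtain ⟨hβ, hNeq⟩ : β = δ ^ 2 ∧ N = δ ^ 2 - 1 := by
    rcases sq_eq_sq_iff_eq_or_eq_neg.mp hy2 with h | h
    · have hα : α = δ ^ 2 + δ := by linarith
      refine ⟨by linarith, mul_left_cancel₀ hE0.ne' ?_⟩
      rw [hα] at hpar
      linear_combination -hpar
    · have hα : α = δ ^ 2 := by linarith
      rw [hα] at hpar
      have : N = δ ^ 2 := mul_left_cancel₀ hE0.ne' (by linear_combination -hpar)
      push_cast at hN
      omega
  set L := 4 ^ l
  have hLE : δ ^ 2 = (L : ℤ) := by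
    rw [hE, ← pow_mul, mul_comm, pow_mul, Nat.cast_pow]; norm_num
  have hmL : m = 2 * L := by rw [hLE] at hm2; exact_mod_cast hm2
  have hx0 : xz m 2 = (L : ZMod m) := by
    rw [xz, show m / 2 = L by omega]
  set φ := delta S q₀
  set x0 := xz m 2
  set A := Finset.univ.filter fun s : ZMod m => s ≠ 0 ∧ aC φ s ≠ 0
  set B := Finset.univ.filter fun s : ZMod m => s ≠ 0 ∧ s * x0 = 0
  have hAB : A = B := by
    refine Finset.eq_of_subset_of_card_le (fun s hs1 => ?_) ?_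
    · rw [Finset.mem_filter] at hs1 ⊢
      exact ⟨hs1.1, hs1.2.1, by by_contra h; exact hs1.2.2 (hs' s h).1⟩
    · have h1 : 2 * (B.card + 1) ≤ m := card_mul_xz_le Nat.prime_two hg.2.1
      rw [hNA, hLE] at hNeq
      omega
  have hb0 : ∀ s, s ≠ 0 → s * x0 = 0 → bT φ s = 0 := by
    intro s hs0 hsx
    have hsB : s ∈ B := Finset.mem_filter.mpr ⟨Finset.mem_univ _, hs0, hsx⟩
    rw [← hAB, Finset.mem_filter] at hsB
    exact ((hs s hs0).resolve_left hsB.2.2).2
  have hanti : ∀ i, φ (sr i) + φ (sr (i + (L : ZMod m))) = 1 := by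
    intro i
    have h := congrFun (eq_of_hat_eq (f := fun i => (φ (sr i) : ℂ) + φ (sr (i + x0))) (g := fun _ => (1 : ℂ))
      fun s => ?_) i
    · rw [hx0] at h
      exact_mod_cast h
    have h1 : hat (fun i => (φ (sr i) : ℂ) + φ (sr (i + x0))) s = (1 + chr s (-x0)) * bT φ s := by
      rw [add_mul, one_mul, bT, ← hat_shift]
      simp only [hat, add_mul, Finset.sum_add_distrib]
    rw [h1, show hat (fun _ => (1 : ℂ)) s = ∑ i, chr s i by simp [hat], sum_chr_right]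
    by_cases hsx : s * x0 = 0
    · rw [show chr s (-x0) = 1 by rw [chr_eq_one_iff, mul_neg, hsx, neg_zero]]
      split
      · rename_i h0
        rw [h0, bT_zero_eq, hβd, hβ]
        have : ((m : ℕ) : ℂ) = 2 * ((δ ^ 2 : ℤ) : ℂ) := by exact_mod_cast hm2
        rw [this]; ring
      · rename_i h0
        rw [hb0 s h0 hsx, mul_zero]
    · have hne : chr s (-x0) ≠ 1 := by rw [Ne, chr_eq_one_iff, mul_neg, neg_eq_zero]; exact hsx
      have hsq : chr s (-x0) * chr s (-x0) = 1 := by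
        have h2 : ((2 : ℕ) : ZMod m) * x0 = 0 := mul_xz hg.2.1
        rw [← chr_add, chr_eq_one_iff, ← neg_add, ← two_mul, mul_neg, ← Nat.cast_ofNat (R := ZMod m) (n := 2), h2,
          mul_zero, neg_zero]
      rw [(mul_self_eq_one_iff.mp hsq).resolve_left hne, if_neg (fun h => hsx (by rw [h, zero_mul]))]
      ring
  refine no_antiperiodic hl1 rfl hmL hanti ?_
  have h1 : (1 : ZMod m) * x0 ≠ 0 := by rw [one_mul]; exact xz_ne_zero Nat.prime_two hg.2.1
  have := (hs' 1 h1).2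
  rw [show ((L : ℕ) : ℂ) = ((δ : ℂ)) ^ 2 by exact_mod_cast hLE.symm]
  exact this

/-- The stabiliser is transitive off the identity. -/
theorem Sys.transitive (hm : 2 ≤ m) (x y : DihedralGroup m) (hx : x ≠ 1) (hy : y ≠ 1) :
    ∃ γ ∈ S.Γ, γ x = y := by
  obtain ⟨p, hg⟩ := exists_good hm
  refine S.transitive_of_trivial hm (fun i j hi hj => ?_) x y hx hy
  have key : ∀ k : ZMod m, k ≠ 0 → S.cls (r k) = S.cls (r (xz m p)) := fun k hk =>
    (S.no_third_class hm hg _).resolve_left fun h => hk (by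
      have := (S.cls_eq_one_iff).mp h
      rwa [one_def, r.injEq] at this)
  exact S.cls_eq_iff.mp ((key i hi).trans (key j hj).symm)

end CfsgLib.FGS.DihedralBGroup
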