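import Cfsg.Agent.Lib.FGS.DihedralBGroup.Ring

/-!
# Rational invariant functions

Invariant integer functions whose rotation part is fixed by all multipliers form a subring.  If its
classes are trivial then the point stabiliser is transitive on the other points.
-/

set_option autoImplicit false

noncomputable section

namespace CfsgLib.FGS.DihedralBGroup

open DihedralGroup

variable {m : ℕ} (S : Sys m)

/-- An invariant integer function with rational rotation part. -/
def Sys.RatF (φ : DihedralGroup m → ℤ) : Prop :=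
  S.Inv φ ∧ ∀ (u : (ZMod m)ˣ) (i : ZMod m), φ (r ((u : ZMod m) * i)) = φ (r i)

/-- Points not separated by rational invariant functions. -/
def Sys.Rel (x y : DihedralGroup m) : Prop := ∀ φ, S.RatF φ → φ x = φ y

theorem Sys.Rel.refl (x : DihedralGroup m) : S.Rel x x := fun _ _ => rfl

theorem Sys.rel_setoid : Equivalence S.Rel :=
  ⟨Sys.Rel.refl S, fun h φ hφ => (h φ hφ).symm, fun h h' φ hφ => (h φ hφ).trans (h' φ hφ)⟩

/-- The classes of rational invariant functions. -/
def Sys.setoid : Setoid (DihedralGroup m) := ⟨S.Rel, S.rel_setoid⟩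

/-- A class. -/
abbrev Sys.Cl := Quotient S.setoid

/-- The class of a point. -/
def Sys.cls (x : DihedralGroup m) : S.Cl := Quotient.mk S.setoid x

instance [NeZero m] : Fintype S.Cl := @Fintype.ofFinite _ (Finite.of_surjective S.cls Quotient.mk_surjective)

theorem Sys.cls_eq_iff {x y : DihedralGroup m} : S.cls x = S.cls y ↔ S.Rel x y := Quotient.eq''

theorem Sys.cls_apply (γ : Equiv.Perm (DihedralGroup m)) (hγ : γ ∈ S.Γ) (x : DihedralGroup m) :
    S.cls (γ x) = S.cls x := (S.cls_eq_iff).mpr fun φ hφ => hφ.1 γ hγ x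

theorem Sys.cls_unit_mul (u : (ZMod m)ˣ) (i : ZMod m) : S.cls (r ((u : ZMod m) * i)) = S.cls (r i) :=
  (S.cls_eq_iff).mpr fun φ hφ => hφ.2 u i

/-- Functions of the class are rational invariant. -/
theorem Sys.ratF_cls (c : S.Cl → ℤ) : S.RatF fun x => c (S.cls x) :=
  ⟨fun γ hγ x => congrArg c (S.cls_apply γ hγ x), fun u i => congrArg c (S.cls_unit_mul u i)⟩

theorem Sys.RatF.apply_eq {φ : DihedralGroup m → ℤ} (h : S.RatF φ) {x y : DihedralGroup m}
    (hxy : S.cls x = S.cls y) : φ x = φ y := (S.cls_eq_iff).mp hxy φ h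

theorem Sys.cls_eq_one_iff [NeZero m] {x : DihedralGroup m} : S.cls x = S.cls 1 ↔ x = 1 := by
  classical
  refine ⟨fun h => ?_, fun h => h ▸ rfl⟩
  have hφ : S.RatF fun z => if z = 1 then 1 else 0 := by
    refine ⟨fun γ hγ z => ?_, fun u i => ?_⟩
    · have : γ z = 1 ↔ z = 1 := ⟨fun h => γ.injective (by rw [h, S.map_one' γ hγ]),
        fun h => by rw [h, S.map_one' γ hγ]⟩
      simp only [this]
    · simp only [one_def, r.injEq, Units.mul_right_eq_zero]
  have := hφ.apply_eq S h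
  simp only [if_true] at this
  by_contra hx
  rw [if_neg hx] at this
  exact zero_ne_one this

theorem Sys.cls_inv [NeZero m] (x : DihedralGroup m) : S.cls x⁻¹ = S.cls x :=
  (S.cls_eq_iff).mpr fun _ hφ => hφ.1.symm x

variable {S} [NeZero m]

/-- Reduction modulo `q`. -/
def modq (q : ℕ) (X : MonoidAlgebra ℤ (DihedralGroup m)) : MonoidAlgebra (ZMod q) (DihedralGroup m) :=
  MonoidAlgebra.mapRingHom _ (Int.castRingHom (ZMod q)) X

theorem coeff_modq (q : ℕ) (X : MonoidAlgebra ℤ (DihedralGroup m)) (z : DihedralGroup m) :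
    (modq q X).coeff z = (X.coeff z : ZMod q) := by simp [modq]

theorem Sys.InvA.modq {X : MonoidAlgebra ℤ (DihedralGroup m)} (h : S.InvA X) (q : ℕ) :
    S.InvA (DihedralBGroup.modq q X) := fun γ hγ x => by
  simp only [coeff_modq]
  exact congrArg _ (h γ hγ x)

/-- The rotation part of a power by a prime congruent to a unit. -/
theorem Sys.InvA.pow_prime_r_unit {q : ℕ} [Fact q.Prime] (hq : q ≠ 2) (u : (ZMod m)ˣ) (hu : (q : ZMod m) = u)
    {X : MonoidAlgebra ℤ (DihedralGroup m)} (hX : S.InvA X) (k : ZMod m) :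
    (DihedralBGroup.modq q X ^ q).coeff (r k) = (X.coeff (r ((u⁻¹ : (ZMod m)ˣ) * k)) : ZMod q) := by
  rw [(hX.modq q).pow_prime_r q hq, Finset.sum_eq_single ((u⁻¹ : (ZMod m)ˣ) * k : ZMod m), coeff_modq]
  · intro b hb hne
    rw [Finset.mem_filter, hu] at hb
    exact absurd (by rw [← hb.2, Units.inv_mul_cancel_left]) hne
  · intro h
    exact absurd (Finset.mem_filter.mpr ⟨Finset.mem_univ _, by rw [hu, Units.mul_inv_cancel_left]⟩) h

omit [NeZero m] in
theorem int_eq_of_mod {a b : ℤ} (h : ∀ N : ℕ, ∃ q > N, (a : ZMod q) = (b : ZMod q)) : a = b := by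
  obtain ⟨q, hq, he⟩ := h (b - a).natAbs
  rw [ZMod.intCast_eq_intCast_iff_dvd_sub] at he
  have := Int.eq_zero_of_dvd_of_natAbs_lt_natAbs he (by simpa using hq)
  omega

theorem exists_prime_unit (u : (ZMod m)ˣ) (N : ℕ) :
    ∃ q > N, q.Prime ∧ q ≠ 2 ∧ (q : ZMod m) = u := by
  obtain ⟨q, hq, hp, he⟩ := Nat.forall_exists_prime_gt_and_eq_mod u.isUnit (max N 2)
  exact ⟨q, (le_max_left _ _).trans_lt hq, hp, fun h => by omega, he⟩

/-- A multiplier respects the orbits on rotations. -/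
theorem Sys.InvA.unit_const {X : MonoidAlgebra ℤ (DihedralGroup m)} (hX : S.InvA X) (u : (ZMod m)ˣ)
    {γ : Equiv.Perm (DihedralGroup m)} (hγ : γ ∈ S.Γ) {a b : ZMod m} (hab : γ (r a) = r b) :
    X.coeff (r ((u : ZMod m) * a)) = X.coeff (r ((u : ZMod m) * b)) := by
  refine int_eq_of_mod fun N => ?_
  obtain ⟨q, hqN, hqp, hq2, hqu⟩ := exists_prime_unit u⁻¹ N
  have := Fact.mk hqp
  refine ⟨q, hqN, ?_⟩
  have h1 := hX.pow_prime_r_unit hq2 u⁻¹ hqu a
  have h2 := hX.pow_prime_r_unit hq2 u⁻¹ hqu b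
  rw [inv_inv] at h1 h2
  rw [← h1, ← h2, ← hab]
  exact ((hX.modq q).pow q γ hγ (r a)).symm

theorem coeff_mapfun (X : MonoidAlgebra ℤ (DihedralGroup m)) (φ : DihedralGroup m → ℤ)
    (h : ∀ z, X.coeff z = φ z) : X = ofFun φ :=
  MonoidAlgebra.ext (Finsupp.ext fun z => by rw [coeff_ofFun, h])

/-- Rational invariant elements are closed under products. -/
theorem Sys.RatF.mul (hm : 2 ≤ m) {φ ψ : DihedralGroup m → ℤ} (hφ : S.RatF φ) (hψ : S.RatF ψ) :
    S.RatF fun z => (ofFun φ * ofFun ψ).coeff z := by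
  set X := ofFun φ
  set Y := ofFun ψ
  have hX : S.InvA X := Sys.invA_ofFun hφ.1
  have hY : S.InvA Y := Sys.invA_ofFun hψ.1
  refine ⟨hX.mul hY, fun u i => int_eq_of_mod fun N => ?_⟩
  obtain ⟨q, hqN, hqp, hq2, hqu⟩ := exists_prime_unit u⁻¹ N
  have := Fact.mk hqp
  refine ⟨q, hqN, ?_⟩
  have hfix : ∀ {χ : DihedralGroup m → ℤ}, S.RatF χ →
      DihedralBGroup.modq q (ofFun χ) ^ q = DihedralBGroup.modq q (ofFun χ) := by
    intro χ hχ
    have hZ : S.InvA (ofFun χ) := Sys.invA_ofFun hχ.1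
    refine ((hZ.modq q).pow q).ext hm (hZ.modq q) fun k => ?_
    rw [hZ.pow_prime_r_unit hq2 u⁻¹ hqu, coeff_modq, inv_inv, coeff_ofFun, coeff_ofFun, hχ.2]
  have hprod : DihedralBGroup.modq q (X * Y) ^ q = DihedralBGroup.modq q (X * Y) := by
    have he : DihedralBGroup.modq q (X * Y) = DihedralBGroup.modq q X * DihedralBGroup.modq q Y :=
      map_mul (MonoidAlgebra.mapRingHom _ (Int.castRingHom (ZMod q))) X Y
    rw [he, Commute.mul_pow ((hX.modq q).mul_comm (hY.modq q)), hfix hφ, hfix hψ]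
  have h1 := (hX.mul hY).pow_prime_r_unit hq2 u⁻¹ hqu i
  rw [hprod, coeff_modq, inv_inv] at h1
  exact h1.symm

/-- The total of an element. -/
def total {R : Type*} [CommRing R] (X : MonoidAlgebra R (DihedralGroup m)) : R := ∑ z, X.coeff z

theorem total_mul {R : Type*} [CommRing R] (X Y : MonoidAlgebra R (DihedralGroup m)) :
    total (X * Y) = total X * total Y := by
  simp only [total, coeff_mul_apply]
  rw [Finset.sum_comm, Finset.sum_mul]
  refine Finset.sum_congr rfl fun x _ => ?_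
  rw [← Finset.mul_sum, ← Equiv.sum_comp (Equiv.mulLeft x⁻¹) fun z => Y.coeff z]
  rfl

theorem total_pow {R : Type*} [CommRing R] (X : MonoidAlgebra R (DihedralGroup m)) :
    ∀ n : ℕ, 0 < n → total (X ^ n) = total X ^ n
  | 0 => fun h => absurd h (lt_irrefl 0)
  | 1 => fun _ => by rw [pow_one, pow_one]
  | n + 2 => fun _ => by
    rw [pow_succ, total_mul, total_pow X (n + 1) n.succ_pos, ← pow_succ]

variable (S)

/-- A rotation in the orbit of a point. -/
theorem Sys.exists_rot (hm : 2 ≤ m) (x : DihedralGroup m) : ∃ γ ∈ S.Γ, ∃ i, γ x = r i := by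
  rcases eq_or_ne x 1 with rfl | hx
  · exact ⟨1, one_mem _, 0, rfl⟩
  · obtain ⟨γ, hγ, i, -, hi⟩ := S.exists_r hm x hx
    exact ⟨γ, hγ, i, hi⟩

/-- An invariant integer function transformed by a multiplier. -/
theorem Sys.exists_twist (hm : 2 ≤ m) {φ : DihedralGroup m → ℤ} (hφ : S.Inv φ) (u : (ZMod m)ˣ) :
    ∃ ψ : DihedralGroup m → ℤ, S.Inv ψ ∧ (∀ i, ψ (r i) = φ (r ((u : ZMod m) * i))) ∧
      (∀ z, ∃ z', ψ z = φ z') ∧
      ∀ (q : ℕ) [Fact q.Prime], q ≠ 2 → (q : ZMod m) = (u⁻¹ : (ZMod m)ˣ) →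
        ((∑ z, ψ z : ℤ) : ZMod q) = ((∑ z, φ z : ℤ) : ZMod q) := by
  choose g hg rot hrot using S.exists_rot hm
  have hX : S.InvA (ofFun φ) := Sys.invA_ofFun hφ
  have hc : ∀ {γ : Equiv.Perm (DihedralGroup m)}, γ ∈ S.Γ → ∀ {a b : ZMod m}, γ (r a) = r b →
      φ (r ((u : ZMod m) * a)) = φ (r ((u : ZMod m) * b)) := by
    intro γ hγ a b hab
    have := hX.unit_const u hγ hab
    rwa [coeff_ofFun, coeff_ofFun] at this
  let ψ : DihedralGroup m → ℤ := fun z => φ (r ((u : ZMod m) * rot z))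
  have hψC : ∀ i, ψ (r i) = φ (r ((u : ZMod m) * i)) := fun i => (hc (hg _) (hrot (r i))).symm
  have hψ : S.Inv ψ := by
    intro γ hγ z
    symm
    refine hc (mul_mem (mul_mem (hg (γ z)) hγ) (inv_mem (hg z))) ?_
    rw [Equiv.Perm.mul_apply, Equiv.Perm.mul_apply, ← hrot z, Equiv.Perm.coe_inv, Equiv.symm_apply_apply, hrot]
  refine ⟨ψ, hψ, hψC, fun z => ⟨_, rfl⟩, fun q _ hq2 hqu => ?_⟩
  have he : modq q (ofFun φ) ^ q = modq q (ofFun ψ) := by
    refine ((hX.modq q).pow q).ext hm ((Sys.invA_ofFun hψ).modq q) fun k => ?_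
    rw [hX.pow_prime_r_unit hq2 u⁻¹ hqu, coeff_modq, inv_inv, coeff_ofFun, coeff_ofFun, hψC]
  have h1 := total_pow (modq q (ofFun φ)) q (Fact.out : q.Prime).pos
  rw [he, ZMod.pow_card] at h1
  simpa [total, coeff_modq, coeff_ofFun] using h1

open Classical in
/-- The orbit of a point. -/
def Sys.orb (x : DihedralGroup m) : Finset (DihedralGroup m) :=
  Finset.univ.filter fun y => ∃ γ ∈ S.Γ, γ x = y

theorem Sys.mem_orb {x y : DihedralGroup m} : y ∈ S.orb x ↔ ∃ γ ∈ S.Γ, γ x = y := by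
  simp [Sys.orb]

theorem Sys.orb_apply {γ : Equiv.Perm (DihedralGroup m)} (hγ : γ ∈ S.Γ) (x y : DihedralGroup m) :
    γ y ∈ S.orb x ↔ y ∈ S.orb x := by
  simp only [Sys.mem_orb]
  constructor
  · rintro ⟨δ, hδ, h⟩
    exact ⟨γ⁻¹ * δ, mul_mem (inv_mem hγ) hδ, by
      rw [Equiv.Perm.mul_apply, h, Equiv.Perm.coe_inv, Equiv.symm_apply_apply]⟩
  · rintro ⟨δ, hδ, h⟩
    exact ⟨γ * δ, mul_mem hγ hδ, by rw [Equiv.Perm.mul_apply, h]⟩

theorem Sys.orb_eq {x y : DihedralGroup m} (h : y ∈ S.orb x) : S.orb y = S.orb x := by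
  obtain ⟨γ, hγ, rfl⟩ := S.mem_orb.mp h
  ext z
  simp only [Sys.mem_orb]
  constructor
  · rintro ⟨δ, hδ, h⟩
    exact ⟨δ * γ, mul_mem hδ hγ, h⟩
  · rintro ⟨δ, hδ, h⟩
    exact ⟨δ * γ⁻¹, mul_mem hδ (inv_mem hγ), by
      rw [Equiv.Perm.mul_apply, Equiv.Perm.coe_inv, Equiv.symm_apply_apply, h]⟩

/-- If all rotations but the identity are rationally equivalent then the stabiliser is transitive. -/
theorem Sys.transitive_of_trivial (hm : 2 ≤ m)
    (htriv : ∀ i j : ZMod m, i ≠ 0 → j ≠ 0 → S.Rel (r i) (r j))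
    (x y : DihedralGroup m) (hx : x ≠ 1) (hy : y ≠ 1) : ∃ γ ∈ S.Γ, γ x = y := by
  classical
  let rots : DihedralGroup m → ℕ := fun z => ((S.orb z).filter fun w => ∃ i, w = r i).card
  -- comparison of two orbits
  have hle : ∀ a b : DihedralGroup m, a ≠ 1 → b ≠ 1 →
      rots b ≤ rots a ∧ (S.orb b).card ≤ (S.orb a).card := by
    intro a b ha hb
    set φ : DihedralGroup m → ℤ := fun z => if z ∈ S.orb a then 1 else 0 with hφd
    have hφ : S.Inv φ := fun γ hγ z => by simp only [φ, S.orb_apply hγ]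
    choose ψ hψ hψC hψv hψt using S.exists_twist hm hφ
    have hZ : S.RatF fun z => ∑ u : (ZMod m)ˣ, ψ u z := by
      refine ⟨fun γ hγ z => Finset.sum_congr rfl fun u _ => hψ u γ hγ z, fun v i => ?_⟩
      simp only [hψC]
      refine Fintype.sum_equiv (Equiv.mulRight v) _ _ fun u => ?_
      rw [Equiv.coe_mulRight, Units.val_mul, mul_assoc]
    have hnn : ∀ u z, 0 ≤ ψ u z := fun u z => by
      obtain ⟨z', hz'⟩ := hψv u z
      rw [hz']; simp only [φ]; split <;> simp
    have hle1 : ∀ u z, ψ u z ≤ 1 := fun u z => by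
      obtain ⟨z', hz'⟩ := hψv u z
      rw [hz']; simp only [φ]; split <;> simp
    obtain ⟨γa, hγa, i, hi, hia⟩ := S.exists_r hm a ha
    obtain ⟨γb, hγb, j, hj, hjb⟩ := S.exists_r hm b hb
    have hpos : 0 < ∑ u : (ZMod m)ˣ, ψ u (r j) := by
      refine lt_of_lt_of_eq (Finset.sum_pos' (fun u _ => hnn u _) ⟨1, Finset.mem_univ _, ?_⟩)
        (htriv i j hi hj _ hZ)
      rw [hψC, Units.val_one, one_mul]
      simp only [φ]
      rw [if_pos (S.mem_orb.mpr ⟨γa, hγa, hia⟩)]
      exact one_pos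
    obtain ⟨u, -, hu⟩ := Finset.exists_ne_zero_of_sum_ne_zero hpos.ne'
    have hone : ψ u (r j) = 1 := by have := hnn u (r j); have := hle1 u (r j); omega
    have hdom : ∀ z, (if z ∈ S.orb b then (1 : ℤ) else 0) ≤ ψ u z := by
      intro z
      split
      · rename_i hz
        obtain ⟨δ, hδ, rfl⟩ := S.mem_orb.mp hz
        have h1 : ψ u (δ b) = ψ u (r j) := by rw [← hjb, hψ u δ hδ, hψ u γb hγb]
        rw [h1, hone]
      · exact hnn u z
    have hrots : ∀ c, (rots c : ℤ) = ∑ k : ZMod m, if r k ∈ S.orb c then 1 else 0 := by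
      intro c
      rw [Finset.sum_boole, Nat.cast_inj]
      refine Finset.card_bij' (fun w _ => match w with | r k => k | sr k => k) (fun k _ => r k) ?_ ?_ ?_ ?_
      · intro w hw
        rw [Finset.mem_filter] at hw
        obtain ⟨k, rfl⟩ := hw.2
        simp [hw.1]
      · intro k hk
        rw [Finset.mem_filter] at hk ⊢
        exact ⟨hk.2, k, rfl⟩
      · intro w hw
        rw [Finset.mem_filter] at hw
        obtain ⟨k, rfl⟩ := hw.2
        rfl
      · intro k _
        rfl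
    constructor
    · zify
      rw [hrots, hrots]
      calc ∑ k : ZMod m, (if r k ∈ S.orb b then (1 : ℤ) else 0) ≤ ∑ k : ZMod m, ψ u (r k) :=
            Finset.sum_le_sum fun k _ => hdom _
        _ = ∑ k : ZMod m, φ (r k) := by
            simp only [hψC]
            exact Fintype.sum_equiv (Units.mulLeft u) _ _ fun k => rfl
    · obtain ⟨q, hqN, hqp, hq2, hqu⟩ := exists_prime_unit (u⁻¹) (2 * m)
      have := Fact.mk hqp
      have hcong := hψt u q hq2 hqu
      have hb0 : ∀ (χ : DihedralGroup m → ℤ), (∀ z, 0 ≤ χ z) → (∀ z, χ z ≤ 1) →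
          0 ≤ ∑ z, χ z ∧ ∑ z, χ z ≤ 2 * m := fun χ h0 h1 => by
        refine ⟨Finset.sum_nonneg fun z _ => h0 z, (Finset.sum_le_sum fun z _ => h1 z).trans ?_⟩
        simp [DihedralGroup.card]
      have b1 := hb0 (ψ u) (hnn u) (hle1 u)
      have b2 := hb0 φ (fun z => by simp only [φ]; split <;> simp) (fun z => by simp only [φ]; split <;> simp)
      have heq : ∑ z, ψ u z = ∑ z, φ z := by
        rw [ZMod.intCast_eq_intCast_iff_dvd_sub] at hcong
        have := Int.eq_zero_of_dvd_of_natAbs_lt_natAbs hcong (by simp only [Int.natAbs_natCast]; omega)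
        omega
      zify
      calc ((S.orb b).card : ℤ) = ∑ z, if z ∈ S.orb b then (1 : ℤ) else 0 := by simp
        _ ≤ ∑ z, ψ u z := Finset.sum_le_sum fun z _ => hdom z
        _ = ((S.orb a).card : ℤ) := by rw [heq]; simp [φ]
  -- counting
  set U : Finset (DihedralGroup m) := Finset.univ.erase 1
  set O := U.image S.orb
  have hne1 : ∀ {a b : DihedralGroup m}, a ≠ 1 → b ∈ S.orb a → b ≠ 1 := by
    rintro a b ha hb rfl
    obtain ⟨γ, hγ, h⟩ := S.mem_orb.mp hb
    exact ha (γ.injective (by rw [h, S.map_one' γ hγ]))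
  have hfib : ∀ z, z ≠ 1 → U.filter (fun w => S.orb w = S.orb z) = S.orb z := by
    intro z hz
    ext w
    rw [Finset.mem_filter]
    refine ⟨fun h => h.2 ▸ S.mem_orb.mpr ⟨1, one_mem _, rfl⟩,
      fun h => ⟨Finset.mem_erase.mpr ⟨hne1 hz h, Finset.mem_univ _⟩, S.orb_eq h⟩⟩
  have hU : 2 * m - 1 = O.card * (S.orb x).card := by
    rw [← smul_eq_mul O.card, ← Finset.sum_const,
      show 2 * m - 1 = U.card by simp [U, DihedralGroup.card], Finset.card_eq_sum_card_image S.orb U]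
    refine Finset.sum_congr rfl fun o ho => ?_
    obtain ⟨z, hz, rfl⟩ := Finset.mem_image.mp ho
    have hz1 := (Finset.mem_erase.mp hz).1
    rw [hfib z hz1]
    exact le_antisymm (hle x z hx hz1).2 (hle z x hz1 hx).2
  have hR : m - 1 = O.card * rots x := by
    set UR := U.filter fun w => ∃ i, w = r i
    have hURcard : UR.card = m - 1 := by
      have : UR = (Finset.univ.erase (0 : ZMod m)).image r := by
        ext w
        simp only [UR, U, Finset.mem_filter, Finset.mem_erase, Finset.mem_image, Finset.mem_univ, and_true]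
        constructor
        · rintro ⟨hw, k, rfl⟩
          exact ⟨k, fun h => hw (by rw [h, one_def]), rfl⟩
        · rintro ⟨k, hk, rfl⟩
          exact ⟨by rw [one_def, Ne, r.injEq]; exact hk, k, rfl⟩
      rw [this, Finset.card_image_of_injective _ (fun a b h => by simpa using h)]
      simp
    have himg : UR.image S.orb = O := by
      refine le_antisymm (Finset.image_subset_image (Finset.filter_subset _ _)) fun o ho => ?_
      obtain ⟨z, hz, rfl⟩ := Finset.mem_image.mp ho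
      obtain ⟨γ, hγ, k, hk0, hk⟩ := S.exists_r hm z (Finset.mem_erase.mp hz).1
      refine Finset.mem_image.mpr ⟨r k, Finset.mem_filter.mpr ⟨Finset.mem_erase.mpr
        ⟨by rw [one_def, Ne, r.injEq]; exact hk0, Finset.mem_univ _⟩, k, rfl⟩, ?_⟩
      exact S.orb_eq (S.mem_orb.mpr ⟨γ, hγ, hk⟩)
    rw [← hURcard, ← smul_eq_mul O.card, ← Finset.sum_const, Finset.card_eq_sum_card_image S.orb UR, himg]
    refine Finset.sum_congr rfl fun o ho => ?_
    obtain ⟨z, hz, rfl⟩ := Finset.mem_image.mp ho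
    have hz1 := (Finset.mem_erase.mp hz).1
    rw [Finset.filter_comm, hfib z hz1]
    exact le_antisymm (hle x z hx hz1).1 (hle z x hz1 hx).1
  have h1 : O.card ∣ 2 * (m - 1) + 1 := by
    rw [show 2 * (m - 1) + 1 = 2 * m - 1 by omega, hU]
    exact dvd_mul_right _ _
  have hO : O.card ∣ 1 := (Nat.dvd_add_right (Dvd.dvd.mul_left (hR ▸ dvd_mul_right _ _) 2)).mp h1
  obtain ⟨o, ho⟩ := Finset.card_eq_one.mp (Nat.dvd_one.mp hO)
  have hox : ∀ z, z ≠ 1 → S.orb z = o := fun z hz => Finset.mem_singleton.mp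
    (ho ▸ Finset.mem_image.mpr ⟨z, Finset.mem_erase.mpr ⟨hz, Finset.mem_univ _⟩, rfl⟩)
  have : y ∈ S.orb x := by
    rw [hox x hx, ← hox y hy]
    exact S.mem_orb.mpr ⟨1, one_mem _, rfl⟩
  exact S.mem_orb.mp this

end CfsgLib.FGS.DihedralBGroup
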