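import Mathlib

/-!
# Schur rings over dihedral groups

A point stabiliser of a primitive group with a regular dihedral subgroup gives a `Sys`.  The invariant
elements of the group algebra are symmetric, commute, and are determined by their rotation part.
-/

set_option autoImplicit false

noncomputable section

namespace CfsgLib.FGS.DihedralBGroup

open DihedralGroup

/-- The permutations induced on a regular dihedral subgroup by a point stabiliser. -/
structure Sys (m : ℕ) where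
  Γ : Subgroup (Equiv.Perm (DihedralGroup m))
  map_one' : ∀ γ ∈ Γ, γ 1 = 1
  shift : ∀ γ ∈ Γ, ∀ x, ∃ δ ∈ Γ, ∀ z, δ (x⁻¹ * z) = (γ x)⁻¹ * γ z
  prim : ∀ H : Subgroup (DihedralGroup m), (∀ γ ∈ Γ, ∀ x ∈ H, γ x ∈ H) → H = ⊥ ∨ H = ⊤

variable {m : ℕ} (S : Sys m)

/-- Invariant functions. -/
def Sys.Inv {R : Type*} (φ : DihedralGroup m → R) : Prop := ∀ γ ∈ S.Γ, ∀ x, φ (γ x) = φ x

variable {S}

theorem Sys.Inv.comp {R T : Type*} {φ : DihedralGroup m → R} (h : S.Inv φ) (F : R → T) :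
    S.Inv fun x => F (φ x) := fun γ hγ x => congrArg F (h γ hγ x)

theorem Sys.Inv.comp₂ {R₁ R₂ T : Type*} {φ : DihedralGroup m → R₁} {ψ : DihedralGroup m → R₂}
    (h : S.Inv φ) (h' : S.Inv ψ) (F : R₁ → R₂ → T) : S.Inv fun x => F (φ x) (ψ x) :=
  fun γ hγ x => congrArg₂ F (h γ hγ x) (h' γ hγ x)

theorem Sys.inv_apply_inv {R : Type*} {φ : DihedralGroup m → R} (h : S.Inv φ) :
    S.Inv fun x => φ x⁻¹ := by
  intro γ hγ x
  obtain ⟨δ, hδ, hd⟩ := S.shift γ hγ x
  have := hd 1
  rw [mul_one, S.map_one' γ hγ, mul_one] at this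
  show φ (γ x)⁻¹ = φ x⁻¹
  rw [← this, h δ hδ]

variable (S)

theorem Sys.top_ne_bot [NeZero m] (hm : 2 ≤ m) : (⊤ : Subgroup (DihedralGroup m)) ≠ ⊥ := by
  intro h
  have h1 := (Subgroup.eq_bot_iff_forall _).mp h (sr 0) (Subgroup.mem_top _)
  rw [one_def] at h1
  cases h1

/-- Every non-identity point can be moved to a reflection. -/
theorem Sys.exists_sr (x : DihedralGroup m) (hx : x ≠ 1) : ∃ γ ∈ S.Γ, ∃ i, γ x = sr i := by
  let H : Subgroup (DihedralGroup m) :=
    { carrier := {y | ∀ γ ∈ S.Γ, ∃ i, γ y = r i}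
      one_mem' := fun γ hγ => ⟨0, by rw [S.map_one' γ hγ, one_def]⟩
      mul_mem' := fun {a b} ha hb γ hγ => by
        obtain ⟨δ, hδ, hd⟩ := S.shift γ hγ a
        have h1 := hd (a * b)
        rw [inv_mul_cancel_left] at h1
        obtain ⟨i, hi⟩ := ha γ hγ
        obtain ⟨j, hj⟩ := hb δ hδ
        refine ⟨i + j, ?_⟩
        rw [show γ (a * b) = γ a * δ b by rw [h1, mul_inv_cancel_left], hi, hj, r_mul_r]
      inv_mem' := fun {a} ha γ hγ => by
        obtain ⟨δ, hδ, hd⟩ := S.shift γ hγ a⁻¹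
        have h1 := hd 1
        rw [S.map_one' γ hγ, mul_one, mul_one, inv_inv] at h1
        obtain ⟨i, hi⟩ := ha δ hδ
        refine ⟨-i, ?_⟩
        rw [← inv_inv (γ a⁻¹), ← h1, hi, inv_r] }
  have hinv : ∀ γ ∈ S.Γ, ∀ y ∈ H, γ y ∈ H := by
    intro γ hγ y hy δ hδ
    exact hy (δ * γ) (mul_mem hδ hγ)
  have hne : H ≠ ⊤ := by
    intro h
    obtain ⟨i, hi⟩ := (h ▸ Subgroup.mem_top (sr 0) : sr 0 ∈ H) 1 (one_mem _)
    simp at hi
  by_contra hcon
  push Not at hcon
  have hxH : x ∈ H := by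
    intro γ hγ
    cases hc : γ x with
    | r i => exact ⟨i, rfl⟩
    | sr i => exact absurd hc (hcon γ hγ i)
  rcases S.prim H hinv with h | h
  · exact hx (Subgroup.mem_bot.mp (h ▸ hxH))
  · exact hne h

/-- Every non-identity point can be moved to a rotation. -/
theorem Sys.exists_r [NeZero m] (hm : 2 ≤ m) (x : DihedralGroup m) (hx : x ≠ 1) :
    ∃ γ ∈ S.Γ, ∃ i, i ≠ 0 ∧ γ x = r i := by
  suffices h : ∃ γ ∈ S.Γ, ∃ i, γ x = r i by
    obtain ⟨γ, hγ, i, hi⟩ := h
    refine ⟨γ, hγ, i, fun h0 => hx (γ.injective ?_), hi⟩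
    rw [hi, h0, S.map_one' γ hγ, one_def]
  by_contra hcon
  push Not at hcon
  have hsr : ∀ γ ∈ S.Γ, ∃ i, γ x = sr i := by
    intro γ hγ
    cases hc : γ x with
    | r i => exact absurd hc (hcon γ hγ i)
    | sr i => exact ⟨i, rfl⟩
  have hfix : ∀ γ ∈ S.Γ, γ x = x := by
    intro γ hγ
    by_contra hne
    obtain ⟨i, hi⟩ := hsr 1 (one_mem _)
    rw [Equiv.Perm.one_apply] at hi
    obtain ⟨j, hj⟩ := hsr γ hγ
    have hne1 : x * γ x ≠ 1 := by
      intro h
      rw [hj, hi, sr_mul_sr, one_def, r.injEq, sub_eq_zero] at h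
      exact hne (by rw [hj, h, hi])
    obtain ⟨δ, hδ, l, hl⟩ := S.exists_sr (x * γ x) hne1
    obtain ⟨ε, hε, he⟩ := S.shift δ hδ x
    have h1 := he (x * γ x)
    rw [inv_mul_cancel_left] at h1
    obtain ⟨u, hu⟩ := hsr δ hδ
    obtain ⟨v, hv⟩ := hsr (ε * γ) (mul_mem hε hγ)
    rw [Equiv.Perm.mul_apply] at hv
    rw [hv, hu, inv_sr, hl, sr_mul_sr] at h1
    simp at h1
  obtain ⟨i, hi⟩ := hsr 1 (one_mem _)
  rw [Equiv.Perm.one_apply] at hi
  have hinv : ∀ γ ∈ S.Γ, ∀ y ∈ Subgroup.zpowers x, γ y ∈ Subgroup.zpowers x := by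
    intro γ hγ y hy
    obtain ⟨n, rfl⟩ := Subgroup.mem_zpowers_iff.mp hy
    have h2 : x ^ (2 : ℤ) = 1 := by rw [zpow_two, hi, sr_mul_sr, sub_self, one_def]
    rcases Int.even_or_odd n with ⟨k, hk⟩ | ⟨k, hk⟩
    · rw [hk, ← two_mul, zpow_mul, h2, one_zpow, S.map_one' γ hγ]
      exact one_mem _
    · rw [hk, zpow_add, zpow_mul, h2, one_zpow, one_mul, zpow_one, hfix γ hγ]
      exact Subgroup.mem_zpowers x
  rcases S.prim _ hinv with h | h
  · exact hx (Subgroup.zpowers_eq_bot.mp h)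
  · have h2 : orderOf x = 2 := by rw [hi]; exact orderOf_sr i
    have h3 : Nat.card (Subgroup.zpowers x) = 2 * m := by
      rw [h, Subgroup.card_top, nat_card]
    rw [Nat.card_zpowers, h2] at h3
    omega

variable {S}

/-- An invariant function vanishing on the reflections vanishes off the identity. -/
theorem Sys.Inv.eq_zero_of_sr {R : Type*} [Zero R] {φ : DihedralGroup m → R} (h : S.Inv φ)
    (h0 : ∀ i, φ (sr i) = 0) {z : DihedralGroup m} (hz : z ≠ 1) : φ z = 0 := by
  obtain ⟨γ, hγ, i, hi⟩ := S.exists_sr z hz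
  rw [← h γ hγ z, hi, h0]

/-- An invariant function is determined by its values on the rotations. -/
theorem Sys.Inv.ext [NeZero m] (hm : 2 ≤ m) {R : Type*} {φ ψ : DihedralGroup m → R} (h : S.Inv φ)
    (h' : S.Inv ψ) (he : ∀ i, φ (r i) = ψ (r i)) : φ = ψ := by
  funext z
  rcases eq_or_ne z 1 with rfl | hz
  · rw [one_def]; exact he 0
  obtain ⟨γ, hγ, i, -, hi⟩ := S.exists_r hm z hz
  rw [← h γ hγ z, ← h' γ hγ z, hi, he]

theorem Sys.Inv.symm {R : Type*} {φ : DihedralGroup m → R} (h : S.Inv φ) (z : DihedralGroup m) :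
    φ z⁻¹ = φ z := by
  rcases eq_or_ne z 1 with rfl | hz
  · rw [inv_one]
  obtain ⟨γ, hγ, i, hi⟩ := S.exists_sr z hz
  have h1 : φ (γ z)⁻¹ = φ z⁻¹ := Sys.inv_apply_inv h γ hγ z
  rw [← h1, ← h γ hγ z]
  rw [hi, inv_sr]

/-- A non-trivial period forces an invariant function to be constant. -/
theorem Sys.Inv.const_of_period {R : Type*} {φ : DihedralGroup m → R} (h : S.Inv φ)
    {w : DihedralGroup m} (hw : w ≠ 1) (hper : ∀ y, φ (w * y) = φ y) : ∀ y, φ y = φ 1 := by
  let H : Subgroup (DihedralGroup m) :=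
    { carrier := {z | ∀ y, φ (z * y) = φ y}
      one_mem' := fun y => by rw [one_mul]
      mul_mem' := fun {a b} ha hb y => by rw [mul_assoc, ha, hb]
      inv_mem' := fun {a} ha y => by rw [← ha (a⁻¹ * y), mul_inv_cancel_left] }
  have hinv : ∀ γ ∈ S.Γ, ∀ z ∈ H, γ z ∈ H := by
    intro γ hγ z hz
    suffices hh : (γ z)⁻¹ ∈ H from inv_inv (γ z) ▸ inv_mem hh
    intro w
    obtain ⟨δ, hδ, hd⟩ := S.shift γ hγ z
    rw [← γ.apply_symm_apply w, ← hd, h δ hδ, h γ hγ, inv_mem hz]
  rcases S.prim H hinv with h1 | h1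
  · exact absurd (Subgroup.mem_bot.mp (h1 ▸ (hper : w ∈ H))) hw
  · intro y
    have := (h1 ▸ Subgroup.mem_top y : y ∈ H) 1
    rwa [mul_one] at this

/-! ## The group algebra -/

variable [NeZero m] {R : Type*} [CommRing R]

/-- An element of the group algebra from its coefficient function. -/
def ofFun (φ : DihedralGroup m → R) : MonoidAlgebra R (DihedralGroup m) :=
  MonoidAlgebra.ofCoeff (Finsupp.equivFunOnFinite.symm φ)

theorem coeff_ofFun (φ : DihedralGroup m → R) (z : DihedralGroup m) : (ofFun φ).coeff z = φ z := by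
  simp [ofFun]

theorem eq_sum_single (X : MonoidAlgebra R (DihedralGroup m)) :
    X = ∑ x, MonoidAlgebra.single x (X.coeff x) := by
  classical
  refine MonoidAlgebra.ext (Finsupp.ext fun z => ?_)
  rw [MonoidAlgebra.coeff_sum, Finsupp.finsetSum_apply]
  simp [MonoidAlgebra.coeff_single, Finsupp.single_apply]

theorem coeff_mul_apply (X Y : MonoidAlgebra R (DihedralGroup m)) (z : DihedralGroup m) :
    (X * Y).coeff z = ∑ x, X.coeff x * Y.coeff (x⁻¹ * z) := by
  classical
  conv_lhs => rw [eq_sum_single X, Finset.sum_mul]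
  rw [MonoidAlgebra.coeff_sum, Finsupp.finsetSum_apply]
  refine Finset.sum_congr rfl fun x _ => ?_
  conv_lhs => rw [eq_sum_single Y, Finset.mul_sum]
  rw [MonoidAlgebra.coeff_sum, Finsupp.finsetSum_apply]
  simp only [MonoidAlgebra.single_mul_single, MonoidAlgebra.coeff_single, Finsupp.single_apply]
  rw [Finset.sum_eq_single (x⁻¹ * z)]
  · simp
  · intro y _ hy
    rw [if_neg]
    rintro rfl
    exact hy (by rw [inv_mul_cancel_left])
  · simp

/-- The rotations and the reflections. -/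
def pointEquiv : ZMod m ⊕ ZMod m ≃ DihedralGroup m where
  toFun := Sum.elim r sr
  invFun
    | r i => Sum.inl i
    | sr i => Sum.inr i
  left_inv x := by cases x <;> rfl
  right_inv x := by cases x <;> rfl

theorem sum_points {A : Type*} [AddCommMonoid A] (F : DihedralGroup m → A) :
    ∑ x, F x = ∑ i, F (r i) + ∑ i, F (sr i) := by
  rw [← Equiv.sum_comp pointEquiv F, Fintype.sum_sum_type]
  rfl

theorem coeff_mul_r (X Y : MonoidAlgebra R (DihedralGroup m)) (k : ZMod m) :
    (X * Y).coeff (r k) = ∑ i, X.coeff (r i) * Y.coeff (r (k - i)) + ∑ i, X.coeff (sr i) * Y.coeff (sr (k + i)) := by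
  rw [coeff_mul_apply, sum_points]
  congr 1 <;> refine Finset.sum_congr rfl fun i _ => ?_
  · rw [inv_r, r_mul_r, neg_add_eq_sub]
  · rw [inv_sr, sr_mul_r, add_comm]

theorem coeff_mul_sr (X Y : MonoidAlgebra R (DihedralGroup m)) (k : ZMod m) :
    (X * Y).coeff (sr k) = ∑ i, X.coeff (r i) * Y.coeff (sr (k + i)) + ∑ i, X.coeff (sr i) * Y.coeff (r (k - i)) := by
  rw [coeff_mul_apply, sum_points]
  congr 1 <;> refine Finset.sum_congr rfl fun i _ => ?_
  rw [inv_r, r_mul_sr, sub_neg_eq_add]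

variable (S) in
/-- Invariant elements of the group algebra. -/
def Sys.InvA (X : MonoidAlgebra R (DihedralGroup m)) : Prop := S.Inv fun x => X.coeff x

theorem Sys.invA_ofFun {φ : DihedralGroup m → R} (h : S.Inv φ) : S.InvA (ofFun φ) := by
  intro γ hγ x
  simp only [coeff_ofFun]
  exact h γ hγ x

theorem Sys.InvA.mul {X Y : MonoidAlgebra R (DihedralGroup m)} (hX : S.InvA X) (hY : S.InvA Y) :
    S.InvA (X * Y) := by
  intro γ hγ z
  simp only [coeff_mul_apply]
  symm
  refine Fintype.sum_equiv γ _ _ fun x => ?_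
  obtain ⟨δ, hδ, hd⟩ := S.shift γ hγ x
  have h1 : X.coeff (γ x) = X.coeff x := hX γ hγ x
  have h2 : Y.coeff (δ (x⁻¹ * z)) = Y.coeff (x⁻¹ * z) := hY δ hδ _
  rw [h1, ← hd, h2]

theorem Sys.InvA.one : S.InvA (1 : MonoidAlgebra R (DihedralGroup m)) := by
  classical
  intro γ hγ x
  simp only [MonoidAlgebra.one_def, MonoidAlgebra.coeff_single, Finsupp.single_apply]
  have : (1 : DihedralGroup m) = γ x ↔ (1 : DihedralGroup m) = x := by
    constructor
    · intro h
      exact γ.injective (by rw [S.map_one' γ hγ, h])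
    · rintro rfl
      exact (S.map_one' γ hγ).symm
  simp only [this]

theorem Sys.InvA.pow {X : MonoidAlgebra R (DihedralGroup m)} (hX : S.InvA X) : ∀ n : ℕ, S.InvA (X ^ n)
  | 0 => by rw [pow_zero]; exact Sys.InvA.one
  | n + 1 => by rw [pow_succ]; exact (Sys.InvA.pow hX n).mul hX

theorem Sys.InvA.mul_comm {X Y : MonoidAlgebra R (DihedralGroup m)} (hX : S.InvA X) (hY : S.InvA Y) :
    X * Y = Y * X := by
  refine MonoidAlgebra.ext (Finsupp.ext fun z => ?_)
  rw [← Sys.Inv.symm (hX.mul hY) z, coeff_mul_apply, coeff_mul_apply]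
  refine Fintype.sum_equiv (Equiv.mulLeft z) _ _ fun x => ?_
  have h1 := Sys.Inv.symm hX x
  have h2 := Sys.Inv.symm hY (z * x)
  simp only [mul_inv_rev] at h1 h2
  rw [Equiv.coe_mulLeft, h2, mul_inv_rev, inv_mul_cancel_right, h1, _root_.mul_comm]

theorem Sys.InvA.ext (hm : 2 ≤ m) {X Y : MonoidAlgebra R (DihedralGroup m)} (hX : S.InvA X) (hY : S.InvA Y)
    (h : ∀ i, X.coeff (r i) = Y.coeff (r i)) : X = Y :=
  MonoidAlgebra.ext (Finsupp.ext fun z => congrFun (Sys.Inv.ext hm hX hY h) z)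

/-- The rotation part of a prime power of an invariant element. -/
theorem Sys.InvA.pow_prime_r (q : ℕ) [Fact q.Prime] (hq : q ≠ 2)
    {X : MonoidAlgebra (ZMod q) (DihedralGroup m)} (hX : S.InvA X) (k : ZMod m) :
    (X ^ q).coeff (r k) = ∑ i ∈ Finset.univ.filter (fun i : ZMod m => (q : ZMod m) * i = k), X.coeff (r i) := by
  classical
  set F := ∑ i : ZMod m, MonoidAlgebra.single (r i) (X.coeff (r i)) with hF
  set Gp := ∑ i : ZMod m, MonoidAlgebra.single (sr i) (X.coeff (sr i)) with hGp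
  have hXe : X = F + Gp := by
    conv_lhs => rw [eq_sum_single X, sum_points]
  have hFr : ∀ i, F.coeff (r i) = X.coeff (r i) := fun i => by
    simp [F, MonoidAlgebra.coeff_sum, Finsupp.single_apply, Finsupp.finsetSum_apply]
  have hFs : ∀ i, F.coeff (sr i) = 0 := fun i => by
    simp [F, MonoidAlgebra.coeff_sum, Finsupp.single_apply, Finsupp.finsetSum_apply]
  have hGs : ∀ i, Gp.coeff (sr i) = X.coeff (sr i) := fun i => by
    simp [Gp, MonoidAlgebra.coeff_sum, Finsupp.single_apply, Finsupp.finsetSum_apply]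
  have hGr : ∀ i, Gp.coeff (r i) = 0 := fun i => by
    simp [Gp, MonoidAlgebra.coeff_sum, Finsupp.single_apply, Finsupp.finsetSum_apply]
  have heven : ∀ i, X.coeff (r (-i)) = X.coeff (r i) := fun i => by
    have := Sys.Inv.symm hX (r i)
    rwa [inv_r] at this
  have hcomm : Commute F Gp := by
    refine MonoidAlgebra.ext (Finsupp.ext fun z => ?_)
    cases z with
    | r a => simp [coeff_mul_r, hFs, hGr]
    | sr a =>
      simp only [coeff_mul_sr, hFs, hGr, hFr, hGs, zero_mul, mul_zero, Finset.sum_const_zero, add_zero, zero_add]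
      refine Fintype.sum_equiv (Equiv.addLeft a) _ _ fun i => ?_
      rw [Equiv.coe_addLeft, sub_add_cancel_left, heven, _root_.mul_comm]
  have : CharP (MonoidAlgebra (ZMod q) (DihedralGroup m)) q := charP_of_injective_algebraMap
    (algebraMap (ZMod q) (MonoidAlgebra (ZMod q) (DihedralGroup m))).injective q
  rw [hXe, add_pow_char_of_commute q hcomm, MonoidAlgebra.coeff_add, Finsupp.add_apply]
  have hGpow : ∀ j : ℕ, ∀ a, (Gp ^ (2 * j + 1)).coeff (r a) = 0 := by
    intro j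
    induction j with
    | zero => intro a; rw [mul_zero, zero_add, pow_one]; exact hGr a
    | succ j ih =>
      intro a
      have h2 : ∀ b, (Gp * Gp).coeff (sr b) = 0 := fun b => by simp [coeff_mul_sr, hGr]
      rw [show 2 * (j + 1) + 1 = (2 * j + 1) + 2 by ring, pow_add, pow_two, coeff_mul_r]
      simp [ih, h2]
  obtain ⟨j, hj⟩ : Odd q := (Fact.out : q.Prime).odd_of_ne_two hq
  have hG0 : (Gp ^ q).coeff (r k) = 0 := (congrArg (fun n => (Gp ^ n).coeff (r k)) hj).trans (hGpow j k)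
  rw [hG0, add_zero]
  have hFpow : ∀ s : Finset (ZMod m), (∑ i ∈ s, MonoidAlgebra.single (r i) (X.coeff (r i))) ^ q =
      ∑ i ∈ s, MonoidAlgebra.single (r ((q : ZMod m) * i)) (X.coeff (r i)) := by
    intro s
    induction s using Finset.induction_on with
    | empty => simp [zero_pow (Fact.out : q.Prime).ne_zero]
    | insert a s ha ih =>
      have hc : Commute (MonoidAlgebra.single (r a) (X.coeff (r a)))
          (∑ i ∈ s, MonoidAlgebra.single (r i) (X.coeff (r i))) := Commute.sum_right _ _ _ fun i _ => by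
        show _ * _ = _ * _
        rw [MonoidAlgebra.single_mul_single, MonoidAlgebra.single_mul_single, r_mul_r, r_mul_r, add_comm,
          _root_.mul_comm]
      rw [Finset.sum_insert ha, Finset.sum_insert ha, add_pow_char_of_commute q hc, ih,
        MonoidAlgebra.single_pow, r_pow, ZMod.pow_card, _root_.mul_comm a]
  rw [hF, hFpow, MonoidAlgebra.coeff_sum, Finsupp.finsetSum_apply, ← hF, ← hXe, Finset.sum_filter]
  simp [MonoidAlgebra.coeff_single, Finsupp.single_apply]

end CfsgLib.FGS.DihedralBGroup
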